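import Mathlib
import Groth.Prelude.Def_CAlg
import Groth.Agent.H4Depth.DepthLemmas
import Groth.Agent.H4Depth.LocDepth

/-!
# Modules of depth at least two, element form
-/

set_option autoImplicit false

universe u

open IsLocalRing Pointwise LocCoh

namespace Groth.Agent.H18Pur

/-- Element form of "depth at least two" for torsion-free modules over a local domain. -/
structure Sat (A : Type u) [CommRing A] [IsLocalRing A] (M : Type u) [AddCommGroup M] [Module A M] : Prop where
  eq_zero : ∀ x : M, (∀ a ∈ maximalIdeal A, a • x = 0) → x = 0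
  exists_eq : ∀ s : A, s ≠ 0 → ∀ x : M, (∀ a ∈ maximalIdeal A, ∃ y, a • x = s • y) → ∃ y, x = s • y

variable {A : Type u} [CommRing A] [IsLocalRing A] [IsNoetherianRing A] {M : Type u} [AddCommGroup M] [Module A M]

theorem mem_of_pow (N : Submodule A M) (hN : ∀ x, (∀ a ∈ maximalIdeal A, a • x ∈ N) → x ∈ N) {x : M}
    (h : ∀ a ∈ maximalIdeal A, ∃ n : ℕ, a ^ n • x ∈ N) : x ∈ N := by
  let J : Ideal A := N.comap (LinearMap.toSpanSingleton A M x)
  have hJ : maximalIdeal A ≤ J.radical := fun a ha => by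
    obtain ⟨n, hn⟩ := h a ha
    exact ⟨n, hn⟩
  obtain ⟨k, hk⟩ := Ideal.exists_pow_le_of_le_radical_of_fg hJ (IsNoetherian.noetherian _)
  have : ∀ k : ℕ, ∀ x : M, (∀ a ∈ maximalIdeal A ^ k, a • x ∈ N) → x ∈ N := by
    intro k
    induction k with
    | zero =>
      intro x hx
      simpa using hx 1 (by simp)
    | succ k ih =>
      intro x hx
      refine hN x fun a ha => ih _ fun b hb => ?_
      rw [smul_smul]
      exact hx _ (by rw [pow_succ]; exact Ideal.mul_mem_mul hb ha)
  exact this k x fun a ha => hk ha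

namespace Sat

theorem eq_zero_of_pow (hM : Sat A M) {x : M} (h : ∀ a ∈ maximalIdeal A, ∃ n : ℕ, a ^ n • x = 0) : x = 0 :=
  (Submodule.mem_bot A).mp (mem_of_pow ⊥ (fun y hy => (Submodule.mem_bot A).mpr
    (hM.eq_zero y fun a ha => (Submodule.mem_bot A).mp (hy a ha)))
    fun a ha => (h a ha).imp fun _ hn => (Submodule.mem_bot A).mpr hn)

theorem exists_eq_of_pow (hM : Sat A M) {s : A} (hs : s ≠ 0) {x : M}
    (h : ∀ a ∈ maximalIdeal A, ∃ (n : ℕ) (y : M), a ^ n • x = s • y) : ∃ y, x = s • y := by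
  let N : Submodule A M := LinearMap.range (LinearMap.lsmul A M s)
  have hmem : ∀ z, z ∈ N ↔ ∃ y, z = s • y := fun z => by
    simp [N, eq_comm]
  refine (hmem x).mp (mem_of_pow N (fun z hz => (hmem z).mpr (hM.exists_eq s hs z fun a ha =>
    (hmem _).mp (hz a ha))) fun a ha => (h a ha).imp fun _ hn => (hmem _).mpr hn)

theorem of_retract (hM : Sat A M) {N : Type u} [AddCommGroup N] [Module A N] (i : N →ₗ[A] M) (p : M →ₗ[A] N)
    (h : ∀ x, p (i x) = x) : Sat A N where
  eq_zero x hx := by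
    have := hM.eq_zero (i x) fun a ha => by rw [← map_smul, hx a ha, map_zero]
    rw [← h x, this, map_zero]
  exists_eq s hs x hx := by
    obtain ⟨y, hy⟩ := hM.exists_eq s hs (i x) fun a ha => by
      obtain ⟨y, hy⟩ := hx a ha
      exact ⟨i y, by rw [← map_smul, hy, map_smul]⟩
    exact ⟨p y, by rw [← map_smul, ← hy, h]⟩

theorem two_le_depth (hM : Sat A M) [Module.Finite A M] (htf : ∀ s : A, s ≠ 0 → IsSMulRegular M s)
    (hA : maximalIdeal A ≠ ⊥) : 2 ≤ depth A M := by
  rcases subsingleton_or_nontrivial M with hsub | hnt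
  · rw [depth, idealDepth, if_pos (Subsingleton.elim _ _)]
    exact le_top
  obtain ⟨s, hs, hs0⟩ := Submodule.exists_mem_ne_zero_of_ne_bot hA
  have hMne : maximalIdeal A • (⊤ : Submodule A M) ≠ ⊤ :=
    fun h => top_ne_bot (Submodule.eq_bot_of_le_smul_of_le_jacobson_bot _ _ Module.Finite.fg_top h.ge
      (maximalIdeal_le_jacobson _))
  rw [depth, ← H4Depth.idealDepth_quotSMulTop_add_one hs (htf s hs0), ← one_add_one_eq_two]
  gcongr
  by_contra hlt
  obtain ⟨P, hP, hle⟩ := (H4Depth.idealDepth_eq_zero_iff_exists_associatedPrime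
    (H4Depth.smul_top_ne_top_of_one_le hs hMne)).mp (ENat.lt_one_iff_eq_zero.mp (not_le.mp hlt))
  obtain ⟨hP', c, hc⟩ := isAssociatedPrime_iff.mp hP
  obtain ⟨x, rfl⟩ := Submodule.Quotient.mk_surjective _ c
  obtain ⟨y, rfl⟩ := hM.exists_eq s hs0 x fun a ha => by
    have := hle ha
    rw [hc, Submodule.mem_colon_singleton, Submodule.mem_bot, ← Submodule.Quotient.mk_smul,
      Submodule.Quotient.mk_eq_zero, Submodule.mem_smul_pointwise_iff_exists] at this
    obtain ⟨y, -, hy⟩ := this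
    exact ⟨y, hy.symm⟩
  refine hP'.ne_top ((Ideal.eq_top_iff_one _).mpr ?_)
  rw [hc, Submodule.mem_colon_singleton, one_smul, Submodule.mem_bot, Submodule.Quotient.mk_eq_zero]
  exact Submodule.smul_mem_pointwise_smul y s ⊤ Submodule.mem_top

end Sat

theorem eq_zero_of_one_le_depth [Module.Finite A M] (h : 1 ≤ depth A M) (x : M)
    (hx : ∀ a ∈ maximalIdeal A, a • x = 0) : x = 0 := by
  by_contra hx0
  haveI : Nontrivial M := ⟨⟨x, 0, hx0⟩⟩
  have hMne : maximalIdeal A • (⊤ : Submodule A M) ≠ ⊤ :=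
    fun h => top_ne_bot (Submodule.eq_bot_of_le_smul_of_le_jacobson_bot _ _ Module.Finite.fg_top h.ge
      (maximalIdeal_le_jacobson _))
  obtain ⟨a, ha, hreg⟩ := (H4Depth.one_le_idealDepth_iff hMne).mp h
  exact hx0 (hreg (show a • x = a • 0 by rw [hx a ha, smul_zero]))

theorem regular_of_one_le_depth [Module.Finite A M] (h : 1 ≤ depth A M) {s : A}
    (hloc : ∀ x : M, s • x = 0 → ∀ a ∈ maximalIdeal A, ∃ n : ℕ, a ^ n • x = 0) : IsSMulRegular M s := by
  refine isSMulRegular_iff_right_eq_zero_of_smul.mpr fun x hx => ?_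
  exact (Submodule.mem_bot A).mp (mem_of_pow ⊥ (fun y hy => (Submodule.mem_bot A).mpr
    (eq_zero_of_one_le_depth h y fun a ha => (Submodule.mem_bot A).mp (hy a ha)))
    fun a ha => (hloc x hx a ha).imp fun _ hn => (Submodule.mem_bot A).mpr hn)

theorem sat_of_two_le_depth [Module.Finite A M] (h : 2 ≤ depth A M)
    (htf : ∀ s : A, s ≠ 0 → IsSMulRegular M s) : Sat A M where
  eq_zero := eq_zero_of_one_le_depth (le_trans (by norm_num) h)
  exists_eq s hs x hx := by
    by_cases hu : IsUnit s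
    · exact ⟨(↑hu.unit⁻¹ : A) • x, by rw [smul_smul, IsUnit.mul_val_inv, one_smul]⟩
    have hsm : s ∈ maximalIdeal A := (mem_maximalIdeal _).mpr hu
    rw [depth, ← H4Depth.idealDepth_quotSMulTop_add_one hsm (htf s hs)] at h
    have h1 : 1 ≤ depth A (QuotSMulTop s M) :=
      (ENat.add_le_add_iff_right (by simp : (1 : ℕ∞) ≠ ⊤)).mp (by simpa [depth, one_add_one_eq_two] using h)
    have := eq_zero_of_one_le_depth h1 (Submodule.Quotient.mk x) fun a ha => by
      obtain ⟨y, hy⟩ := hx a ha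
      rw [← Submodule.Quotient.mk_smul, hy, Submodule.Quotient.mk_eq_zero]
      exact Submodule.smul_mem_pointwise_smul y s ⊤ Submodule.mem_top
    rw [Submodule.Quotient.mk_eq_zero, Submodule.mem_smul_pointwise_iff_exists] at this
    obtain ⟨y, -, hy⟩ := this
    exact ⟨y, hy.symm⟩

end Groth.Agent.H18Pur
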