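import Mathlib
import Groth.Agent.H18Pur.Sat
import Groth.Agent.H18Et.EtaleNormal

/-!
# Algebras étale over the punctured spectrum
-/

set_option autoImplicit false

universe u

open IsLocalRing TensorProduct

namespace Groth.Agent.H18Pur

/-- Étale away from the closed fibre, on the standard cover by `D(a)`, `a ∈ m`. -/
def EtOff (A : Type u) [CommRing A] [IsLocalRing A] (C : Type u) [CommRing C] [Algebra A C] : Prop :=
  ∀ a ∈ maximalIdeal A, Algebra.Etale A (Localization.Away (algebraMap A C a))

variable {A : Type u} [CommRing A] [IsLocalRing A] {C : Type u} [CommRing C] [Algebra A C]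

theorem isEtaleAt_of_mem [Algebra.FinitePresentation A C] (h : EtOff A C) {q : Ideal C} [q.IsPrime] {a : A}
    (ha : a ∈ maximalIdeal A) (hq : algebraMap A C a ∉ q) : Algebra.IsEtaleAt A q :=
  Algebra.basicOpen_subset_etaleLocus_iff_etale.mpr (h a ha) (show (⟨q, ‹_›⟩ : PrimeSpectrum C) ∈
    (PrimeSpectrum.basicOpen (algebraMap A C a) : Set (PrimeSpectrum C)) from hq)

theorem etOff_of_primes [Algebra.FinitePresentation A C]
    (h : ∀ (q : Ideal C) (_ : q.IsPrime), q.comap (algebraMap A C) ≠ maximalIdeal A → Algebra.IsEtaleAt A q) :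
    EtOff A C := fun a ha => Algebra.basicOpen_subset_etaleLocus_iff_etale.mp fun q hq =>
  h q.asIdeal q.isPrime fun e => hq (Ideal.mem_comap.mp (e ▸ ha))

theorem exists_mem_notMem {q : Ideal C} (hq : q.comap (algebraMap A C) ≠ maximalIdeal A) [q.IsPrime] :
    ∃ a ∈ maximalIdeal A, algebraMap A C a ∉ q := by
  by_contra! hall
  exact hq (le_antisymm (le_maximalIdeal (Ideal.IsPrime.ne_top (Ideal.IsPrime.comap _))) fun a ha =>
    Ideal.mem_comap.mpr (hall a ha))

theorem isEtaleAt_of_ne [Algebra.FinitePresentation A C] (h : EtOff A C) (q : Ideal C) [q.IsPrime]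
    (hq : q.comap (algebraMap A C) ≠ maximalIdeal A) : Algebra.IsEtaleAt A q := by
  obtain ⟨a, ha, haq⟩ := exists_mem_notMem hq
  exact isEtaleAt_of_mem h ha haq

theorem EtOff.baseChange [Algebra.FinitePresentation A C] (h : EtOff A C) (A' : Type u) [CommRing A'] [IsLocalRing A'] [Algebra A A']
    (hm : maximalIdeal A' ≤ ((maximalIdeal A).map (algebraMap A A')).radical) :
    EtOff A' (A' ⊗[A] C) := by
  have key : ∀ a ∈ maximalIdeal A,
      Algebra.Etale A' (Localization.Away ((1 : A') ⊗ₜ[A] algebraMap A C a)) := fun a ha =>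
    haveI := h a ha
    Algebra.Etale.of_equiv (IsLocalization.Away.tensorProductEquivTMulRight A A' (algebraMap A C a)
      (Localization.Away (algebraMap A C a)))
  refine etOff_of_primes fun q hq hne => ?_
  obtain ⟨a', ha', haq'⟩ := exists_mem_notMem hne
  obtain ⟨a, ha, haq⟩ : ∃ a ∈ maximalIdeal A, ((1 : A') ⊗ₜ[A] algebraMap A C a) ∉ q := by
    by_contra! hall
    obtain ⟨n, hn⟩ := hm ha'
    refine haq' ((Ideal.IsPrime.mem_of_pow_mem hq n) ?_)
    rw [← map_pow]
    have hle : (maximalIdeal A).map (algebraMap A A') ≤ q.comap (algebraMap A' (A' ⊗[A] C)) :=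
      Ideal.map_le_iff_le_comap.mpr fun a ha => by
        rw [Ideal.mem_comap, Ideal.mem_comap, ← IsScalarTower.algebraMap_apply]
        convert hall a ha
        exact ((Algebra.TensorProduct.includeRight (R := A) (A := A') (B := C)).commutes a).symm
    exact hle hn
  have hmem : (⟨q, hq⟩ : PrimeSpectrum (A' ⊗[A] C)) ∈
      (PrimeSpectrum.basicOpen ((1 : A') ⊗ₜ[A] algebraMap A C a) : Set (PrimeSpectrum (A' ⊗[A] C))) := haq
  exact Algebra.basicOpen_subset_etaleLocus_iff_etale.mpr (key a ha) hmem

theorem EtOff.torsion [IsDomain A] (h : EtOff A C) {s : A} (hs : s ≠ 0) {x : C} (hx : s • x = 0) {a : A}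
    (ha : a ∈ maximalIdeal A) : ∃ n : ℕ, a ^ n • x = 0 := by
  haveI := h a ha
  have hreg : IsSMulRegular (Localization.Away (algebraMap A C a)) s := by
    have := IsSMulRegular.of_flat (S := Localization.Away (algebraMap A C a))
      (show IsSMulRegular A s from fun u v huv => mul_left_cancel₀ hs huv)
    intro u v huv
    exact this (by simpa [Algebra.smul_def] using huv)
  have h0 : algebraMap C (Localization.Away (algebraMap A C a)) x = 0 :=
    hreg (show s • algebraMap C (Localization.Away (algebraMap A C a)) x = s • 0 by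
      rw [smul_zero, ← map_zero (algebraMap C (Localization.Away (algebraMap A C a))), ← hx,
        Algebra.smul_def, Algebra.smul_def, map_mul, ← IsScalarTower.algebraMap_apply])
  obtain ⟨⟨_, n, rfl⟩, hn⟩ := (IsLocalization.map_eq_zero_iff (Submonoid.powers (algebraMap A C a)) _ _).mp h0
  exact ⟨n, by rw [Algebra.smul_def, map_pow]; exact hn⟩

/-- Away from the closed fibre the local rings are domains. -/
theorem EtOff.isDomain_atPrime [IsDomain A] [IsIntegrallyClosed A] (h : EtOff A C) (q : Ideal C)
    [q.IsPrime] {a : A} (ha : a ∈ maximalIdeal A) (hq : algebraMap A C a ∉ q) :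
    IsDomain (Localization.AtPrime q) := by
  haveI := h a ha
  let N := Submonoid.powers (algebraMap A C a)
  let Ca := Localization.Away (algebraMap A C a)
  have hdisj : Disjoint (N : Set C) (q : Set C) := by
    rw [Set.disjoint_left]
    rintro _ ⟨n, rfl⟩ hn
    exact hq (‹q.IsPrime›.mem_of_pow_mem n hn)
  haveI : (q.map (algebraMap C Ca)).IsPrime := IsLocalization.isPrime_of_isPrime_disjoint N Ca q ‹_› hdisj
  have hcomap : (q.map (algebraMap C Ca)).comap (algebraMap C Ca) = q :=
    IsLocalization.comap_map_of_isPrime_disjoint N Ca ‹_› hdisj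
  haveI := (H18Et.EtaleNormal.isDomain_isIntegrallyClosed_atPrime A Ca (q.map (algebraMap C Ca))).1
  haveI : IsLocalization.AtPrime (Localization.AtPrime (q.map (algebraMap C Ca)))
      ((q.map (algebraMap C Ca)).comap (algebraMap C Ca)) :=
    IsLocalization.isLocalization_isLocalization_atPrime_isLocalization N _ _
  haveI : IsLocalization q.primeCompl (Localization.AtPrime (q.map (algebraMap C Ca))) := by
    have e : ((q.map (algebraMap C Ca)).comap (algebraMap C Ca)).primeCompl = q.primeCompl :=
      Submonoid.ext fun x => by simp [Ideal.primeCompl, hcomap]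
    rw [← e]; infer_instance
  exact (IsLocalization.algEquiv q.primeCompl (Localization.AtPrime q)
    (Localization.AtPrime (q.map (algebraMap C Ca)))).toMulEquiv.isDomain

end Groth.Agent.H18Pur
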