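import Mathlib
import Groth.Agent.H18Pur.EtOff

/-!
# A local algebra of depth two, étale on the punctured spectrum of a normal base, is a domain
-/

set_option autoImplicit false

universe u

open IsLocalRing TensorProduct nonZeroDivisors

namespace Groth.Agent.H18Pur

/-- An Artinian reduced ring without nontrivial idempotents is a domain. -/
theorem isDomain_of_idem (L : Type u) [CommRing L] [Nontrivial L] [IsArtinianRing L] [IsReduced L]
    (h : ∀ e : L, IsIdempotentElem e → e = 0 ∨ e = 1) : IsDomain L := by
  classical
  let φ := IsArtinianRing.equivPi L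
  haveI : Subsingleton (MaximalSpectrum L) := by
    refine ⟨fun m m' => by_contra fun hne => ?_⟩
    let g : ∀ I : MaximalSpectrum L, L ⧸ I.asIdeal := Pi.single m 1
    have hg : IsIdempotentElem g := funext fun I => by
      rcases eq_or_ne I m with rfl | hI
      · simp [g]
      · simp [g, hI]
    have := m.isMaximal
    have := m'.isMaximal
    haveI : Nontrivial (L ⧸ m.asIdeal) := Ideal.Quotient.nontrivial_iff.mpr m.isMaximal.ne_top
    haveI : Nontrivial (L ⧸ m'.asIdeal) := Ideal.Quotient.nontrivial_iff.mpr m'.isMaximal.ne_top
    rcases h (φ.symm g) (hg.map φ.symm) with h0 | h1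
    · have := congrFun ((φ.apply_symm_apply g).symm.trans (congrArg φ h0)) m
      simp [g] at this
    · have := congrFun ((φ.apply_symm_apply g).symm.trans (congrArg φ h1)) m'
      simp [g, Ne.symm hne] at this
  haveI : Nonempty (MaximalSpectrum L) := inferInstance
  obtain ⟨m, hm⟩ : ∃ m : MaximalSpectrum L, ∀ I, I = m := ⟨Classical.arbitrary _, fun I => Subsingleton.elim _ _⟩
  have hbot : m.asIdeal = ⊥ := by
    rw [eq_bot_iff]
    intro x hx
    apply φ.injective
    rw [map_zero]
    funext I
    obtain rfl := hm I
    show Ideal.Quotient.mk _ x = 0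
    exact Ideal.Quotient.eq_zero_iff_mem.mpr hx
  haveI : (⊥ : Ideal L).IsPrime := hbot ▸ m.isMaximal.isPrime
  exact IsDomain.of_bot_isPrime L

variable {A : Type u} [CommRing A] [IsLocalRing A] [IsNoetherianRing A] [IsDomain A] {C : Type u} [CommRing C]
  [Algebra A C] [Module.Finite A C]

theorem EtOff.regular (h : EtOff A C) (hS : Sat A C) (s : A) (hs : s ≠ 0) : IsSMulRegular C s :=
  isSMulRegular_iff_right_eq_zero_of_smul.mpr fun x hx => hS.eq_zero_of_pow fun _ ha => h.torsion hs hx ha

theorem EtOff.injective (h : EtOff A C) (hS : Sat A C) [Nontrivial C] :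
    Function.Injective (algebraMap A C) := by
  rw [injective_iff_map_eq_zero]
  intro s hs
  by_contra hs0
  exact one_ne_zero (h.regular hS s hs0 (show s • (1 : C) = s • 0 by rw [smul_zero, Algebra.smul_def, hs, zero_mul]))

theorem EtOff.isDomain [IsIntegrallyClosed A] (h : EtOff A C) (hS : Sat A C) [IsLocalRing C] : IsDomain C := by
  classical
  haveI : IsReduced C := by
    refine ⟨fun c ⟨k, hk⟩ => hS.eq_zero_of_pow fun a ha => ?_⟩
    let J : Ideal C := (⊥ : Ideal C).colon {c}
    have hJ : algebraMap A C a ∈ J.radical := by
      rw [Ideal.radical_eq_sInf, Submodule.mem_sInf]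
      rintro q ⟨hq, hqp⟩
      by_contra haq
      haveI := hqp
      haveI := h.isDomain_atPrime q ha haq
      have h0 : algebraMap C (Localization.AtPrime q) c = 0 := by
        have hk' : algebraMap C (Localization.AtPrime q) c ^ k = 0 := by rw [← map_pow, hk, map_zero]
        exact eq_zero_of_pow_eq_zero hk'
      obtain ⟨⟨t, ht⟩, htc⟩ := (IsLocalization.map_eq_zero_iff (Ideal.primeCompl q) _ c).mp h0
      exact ht (hq (Submodule.mem_colon_singleton.mpr ((Submodule.mem_bot C).mpr htc)))
    obtain ⟨n, hn⟩ := hJ
    refine ⟨n, ?_⟩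
    rw [Algebra.smul_def, map_pow]
    exact (Submodule.mem_bot C).mp (Submodule.mem_colon_singleton.mp hn)
  let K := FractionRing A
  let S := Algebra.algebraMapSubmonoid C A⁰
  let L := Localization S
  letI : Algebra K L := localizationAlgebra A⁰ C
  haveI : Module.Finite K L := Module.Finite.of_isLocalization A C A⁰
  haveI : IsArtinianRing L := isArtinian_of_tower K inferInstance
  haveI : IsReduced L := inferInstanceAs (IsReduced (Localization S))
  have hinj : Function.Injective (algebraMap C L) := by
    rw [injective_iff_map_eq_zero]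
    intro c hc
    obtain ⟨⟨_, s, hs, rfl⟩, hsc⟩ := (IsLocalization.map_eq_zero_iff S L c).mp hc
    exact h.regular hS s (nonZeroDivisors.ne_zero hs)
      (show s • c = s • 0 by rw [smul_zero, Algebra.smul_def]; exact hsc)
  haveI : Nontrivial L := hinj.nontrivial
  haveI : IsDomain L := isDomain_of_idem L fun e he => by
    obtain ⟨⟨c, _, s, hs, rfl⟩, hc⟩ := IsLocalization.surj S e
    have hcc : c * c = algebraMap A C s * c := hinj (by
      rw [map_mul, map_mul, ← hc]
      linear_combination (algebraMap C L (algebraMap A C s)) ^ 2 * he.eq)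
    obtain ⟨c', rfl⟩ := hS.exists_eq_of_pow (nonZeroDivisors.ne_zero hs) (x := c) fun a ha => by
      let J : Ideal C := (Ideal.span {algebraMap A C s}).colon {c}
      have hJ : algebraMap A C a ∈ J.radical := by
        rw [Ideal.radical_eq_sInf, Submodule.mem_sInf]
        rintro q ⟨hq, hqp⟩
        by_contra haq
        haveI := hqp
        haveI := h.isDomain_atPrime q ha haq
        have h0 : algebraMap C (Localization.AtPrime q) c *
            algebraMap C (Localization.AtPrime q) (c - algebraMap A C s) = 0 := by
          rw [← map_mul, mul_sub, hcc, mul_comm c, sub_self, map_zero]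
        rcases mul_eq_zero.mp h0 with h0 | h0
        · obtain ⟨⟨t, ht⟩, htc⟩ := (IsLocalization.map_eq_zero_iff (Ideal.primeCompl q) _ _).mp h0
          refine ht (hq (Submodule.mem_colon_singleton.mpr ?_))
          change t * c ∈ _
          rw [show t * c = 0 from htc]
          exact zero_mem (Ideal.span {algebraMap A C s})
        · obtain ⟨⟨t, ht⟩, htc⟩ := (IsLocalization.map_eq_zero_iff (Ideal.primeCompl q) _ _).mp h0
          refine ht (hq (Submodule.mem_colon_singleton.mpr ?_))
          change t * c ∈ _
          rw [Ideal.mem_span_singleton]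
          have htc' : t * (c - algebraMap A C s) = 0 := htc
          exact ⟨t, by linear_combination htc'⟩
      obtain ⟨n, hn⟩ := hJ
      obtain ⟨y, hy⟩ := Ideal.mem_span_singleton.mp (Submodule.mem_colon_singleton.mp hn)
      exact ⟨n, y, by rw [Algebra.smul_def, map_pow, Algebra.smul_def]; exact hy⟩
    have hu : IsUnit (algebraMap C L (algebraMap A C s)) := IsLocalization.map_units L (⟨_, s, hs, rfl⟩ : S)
    have he' : e = algebraMap C L c' := by
      refine hu.mul_right_cancel ?_
      rw [hc, Algebra.smul_def, map_mul, mul_comm]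
    have hidem : IsIdempotentElem c' := hinj (by rw [map_mul, ← he']; exact he.eq)
    rcases IsLocalRing.isUnit_or_isUnit_one_sub_self c' with hu | hu
    · right
      rw [he', show c' = 1 from hu.mul_left_cancel (hidem.eq.trans (mul_one c').symm), map_one]
    · left
      rw [he', show c' = 0 from hu.mul_left_cancel
        (show (1 - c') * c' = (1 - c') * 0 by rw [sub_mul, one_mul, hidem.eq, sub_self, mul_zero]), map_zero]
  exact hinj.isDomain

end Groth.Agent.H18Pur
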