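import Mathlib
import Groth.Agent.H18Pur.EtOff

/-!
# Sections over the punctured spectrum of a finite algebra étale there
-/

set_option autoImplicit false

universe u

open IsLocalRing TensorProduct nonZeroDivisors

namespace Groth.Agent.H18Pur

/-- The algebra of sections over the punctured spectrum, inside the generic fibre. -/
theorem exists_sections (A : Type u) [CommRing A] [IsLocalRing A] [IsNoetherianRing A] [IsDomain A]
    (hA : Sat A A) (C : Type u) [CommRing C] [Algebra A C] [Module.Finite A C] (h : EtOff A C) :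
    ∃ (D : Type u) (_ : CommRing D) (_ : Algebra A D) (_ : Module.Finite A D) (ι : C →ₐ[A] D),
      Sat A D ∧ (∀ s : A, s ≠ 0 → IsSMulRegular D s) ∧ EtOff A D ∧
      (∀ a ∈ maximalIdeal A, ∀ d : D, ∃ (N : ℕ) (c : C), a ^ N • d = ι c) ∧
      (∀ c : C, ι c = 0 → ∀ a ∈ maximalIdeal A, ∃ N : ℕ, a ^ N • c = 0) := by
  classical
  let K := FractionRing A
  let S := Algebra.algebraMapSubmonoid C A⁰
  let L := Localization S
  letI : Algebra K L := localizationAlgebra A⁰ C
  haveI : IsScalarTower A K L := IsScalarTower.of_algebraMap_eq fun x => by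
    rw [IsScalarTower.algebraMap_apply A C L]
    exact (IsLocalization.map_eq (M := A⁰) (T := S) (Q := L) (g := algebraMap A C) _ x).symm
  haveI : Module.Finite K L := Module.Finite.of_isLocalization A C A⁰
  let j : C →ₐ[A] L := IsScalarTower.toAlgHom A C L
  have hunit : ∀ s : A, s ≠ 0 → IsUnit (algebraMap A L s) := fun s hs => by
    rw [IsScalarTower.algebraMap_apply A C L]
    exact IsLocalization.map_units L (⟨_, s, mem_nonZeroDivisors_of_ne_zero hs, rfl⟩ : S)
  have hregL : ∀ s : A, s ≠ 0 → IsSMulRegular L s := fun s hs u v huv =>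
    (hunit s hs).mul_left_cancel (by simpa [Algebra.smul_def] using huv)
  let D : Subalgebra A L :=
    { carrier := {z | ∀ a ∈ maximalIdeal A, ∃ (N : ℕ) (c : C), a ^ N • z = j c}
      mul_mem' := by
        intro z w hz hw a ha
        obtain ⟨N, c, hc⟩ := hz a ha
        obtain ⟨M, d, hd⟩ := hw a ha
        exact ⟨N + M, c * d, by rw [pow_add, map_mul, ← hc, ← hd, smul_mul_smul_comm]⟩
      add_mem' := by
        intro z w hz hw a ha
        obtain ⟨N, c, hc⟩ := hz a ha
        obtain ⟨M, d, hd⟩ := hw a ha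
        refine ⟨N + M, a ^ M • c + a ^ N • d, ?_⟩
        rw [smul_add, map_add, map_smul, map_smul, ← hc, ← hd, smul_smul, smul_smul, ← pow_add, ← pow_add,
          add_comm M N]
      algebraMap_mem' := fun r a _ => ⟨0, algebraMap A C r, by rw [pow_zero, one_smul, AlgHom.commutes]⟩ }
  have hjD : ∀ c, j c ∈ D := fun c a _ => ⟨0, c, by rw [pow_zero, one_smul]⟩
  let ι : C →ₐ[A] D := j.codRestrict D hjD
  have hι : ∀ c, ((ι c : D) : L) = j c := fun c => rfl
  have hsat : Sat A D := by
    refine ⟨fun x hx => ?_, fun s hs x hx => ?_⟩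
    · by_cases hm : maximalIdeal A = ⊥
      · have := hA.eq_zero 1 fun a ha => by
          rw [hm, Submodule.mem_bot] at ha
          simp [ha]
        exact absurd this one_ne_zero
      obtain ⟨a, ha, ha0⟩ := Submodule.exists_mem_ne_zero_of_ne_bot hm
      exact Subtype.ext (hregL a ha0 (by simpa using congrArg Subtype.val (hx a ha)))
    · let z : L := (↑(hunit s hs).unit⁻¹ : L) * (x : L)
      have hsz : s • z = (x : L) := by
        rw [Algebra.smul_def, ← mul_assoc, IsUnit.mul_val_inv, one_mul]
      have haz : ∀ a ∈ maximalIdeal A, ∀ y : D, a • x = s • y → a • z = (y : L) := fun a _ y hy => by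
        refine hregL s hs ?_
        show s • a • z = s • (y : L)
        rw [smul_comm, hsz]
        exact congrArg Subtype.val hy
      have hz : z ∈ D := fun a ha => by
        obtain ⟨y, hy⟩ := hx a ha
        obtain ⟨N, c, hc⟩ := y.2 a ha
        exact ⟨N + 1, c, by rw [pow_succ, ← smul_smul, haz a ha y hy, hc]⟩
      exact ⟨⟨z, hz⟩, Subtype.ext hsz.symm⟩
  have hreg : ∀ s : A, s ≠ 0 → IsSMulRegular D s := fun s hs u v huv =>
    Subtype.ext (hregL s hs (congrArg Subtype.val huv))
  have hker : ∀ c : C, ι c = 0 → ∀ a ∈ maximalIdeal A, ∃ N : ℕ, a ^ N • c = 0 := by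
    intro c hc a ha
    obtain ⟨⟨_, s, hs, rfl⟩, hsc⟩ := (IsLocalization.map_eq_zero_iff S L c).mp (congrArg Subtype.val hc)
    exact h.torsion (nonZeroDivisors.ne_zero hs) (by rw [Algebra.smul_def]; exact hsc) ha
  have hsurj : ∀ a ∈ maximalIdeal A, ∀ d : D, ∃ (N : ℕ) (c : C), a ^ N • d = ι c := fun a ha d => by
    obtain ⟨N, c, hc⟩ := d.2 a ha
    exact ⟨N, c, Subtype.ext hc⟩
  -- finiteness
  haveI : Module.Finite A D := by
    obtain ⟨T, hT⟩ := (Module.Finite.fg_top : (⊤ : Submodule A C).FG)
    let b := Module.Free.chooseBasis K L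
    obtain ⟨⟨d₀, hd₀⟩, hd⟩ := IsLocalization.exist_integer_multiples_of_finite A⁰
      (fun p : T × Module.Free.ChooseBasisIndex K L => b.repr (j p.1) p.2)
    have hd00 : algebraMap A K d₀ ≠ 0 := by
      rw [map_ne_zero_iff _ (IsFractionRing.injective A K)]
      exact nonZeroDivisors.ne_zero hd₀
    let Φ : L →ₗ[A] (Module.Free.ChooseBasisIndex K L → K) :=
      (((algebraMap A K d₀) • (LinearMap.id : (Module.Free.ChooseBasisIndex K L → K) →ₗ[K] _)).comp
        b.equivFun.toLinearMap).restrictScalars A
    have hΦ : Function.Injective Φ := fun u v huv => by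
      apply b.equivFun.injective
      funext i
      have := congrFun huv i
      have h2 : d₀ • b.repr u i = d₀ • b.repr v i := by simpa [Φ] using this
      rw [Algebra.smul_def, Algebra.smul_def] at h2
      exact mul_left_cancel₀ hd00 h2
    let W : Submodule A (Module.Free.ChooseBasisIndex K L → K) :=
      LinearMap.range (LinearMap.pi fun i => (Algebra.linearMap A K).comp (LinearMap.proj i) :
        (Module.Free.ChooseBasisIndex K L → A) →ₗ[A] _)
    have hW : ∀ v, v ∈ W ↔ ∀ i, ∃ r : A, algebraMap A K r = v i := fun v =>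
      ⟨fun ⟨r, hr⟩ i => ⟨r i, by rw [← hr]; rfl⟩, fun hv => by
        choose r hr using hv
        exact ⟨r, funext hr⟩⟩
    have hjW : ∀ c, Φ (j c) ∈ W := by
      suffices ⊤ ≤ W.comap (Φ.comp j.toLinearMap) from fun c => this Submodule.mem_top
      rw [← hT, Submodule.span_le]
      intro t ht
      refine (hW _).mpr fun i => ?_
      obtain ⟨r, hr⟩ := hd (⟨t, ht⟩, i)
      refine ⟨r, hr.trans ?_⟩
      show d₀ • _ = _
      simp [Φ, Algebra.smul_def]
    have hDW : (Subalgebra.toSubmodule D).map Φ ≤ W := by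
      rintro _ ⟨z, hz, rfl⟩
      refine (hW _).mpr fun i => ?_
      obtain ⟨⟨c, s, hs⟩, hcs⟩ := IsLocalization.surj A⁰ (Φ z i)
      have key : ∃ y, c = s • y := hA.exists_eq_of_pow (nonZeroDivisors.ne_zero hs) fun a ha => by
        obtain ⟨N, c', hc'⟩ := hz a ha
        obtain ⟨r, hr⟩ := (hW _).mp (hjW c') i
        refine ⟨N, r, IsFractionRing.injective A K ?_⟩
        rw [← hc', map_smul, Pi.smul_apply, Algebra.smul_def] at hr
        simp only [smul_eq_mul, map_mul, hr] at hcs ⊢
        rw [← hcs]
        ring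
      obtain ⟨y, rfl⟩ := key
      refine ⟨y, mul_right_cancel₀ ((map_ne_zero_iff _ (IsFractionRing.injective A K)).mpr
        (nonZeroDivisors.ne_zero hs)) ?_⟩
      rw [smul_eq_mul, map_mul] at hcs
      rw [hcs, mul_comm]
    have hfgW : W.FG := Module.Finite.iff_fg.mp (Module.Finite.range _)
    haveI : IsNoetherian A W := isNoetherian_of_fg_of_noetherian W hfgW
    have hfg : ((Subalgebra.toSubmodule D).map Φ).FG := by
      have : IsNoetherian A ((Subalgebra.toSubmodule D).map Φ) := isNoetherian_of_le hDW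
      exact Module.Finite.iff_fg.mp inferInstance
    exact Module.Finite.iff_fg.mpr (Submodule.fg_of_fg_map_injective Φ hΦ hfg)
  haveI : Algebra.FiniteType A C := inferInstance
  refine ⟨D, inferInstance, inferInstance, inferInstance, ι, hsat, hreg, fun a ha => ?_, hsurj, hker⟩
  haveI := h a ha
  let f : Localization.Away (algebraMap A C a) →ₐ[A] Localization.Away (algebraMap A D a) :=
    IsLocalization.liftAlgHom (M := Submonoid.powers (algebraMap A C a))
      (f := (IsScalarTower.toAlgHom A D (Localization.Away (algebraMap A D a))).comp ι) (by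
        rintro ⟨_, n, rfl⟩
        simp only [map_pow, AlgHom.coe_comp, Function.comp_apply, AlgHom.commutes]
        exact ((IsScalarTower.algebraMap_apply A D (Localization.Away (algebraMap A D a)) a) ▸
          IsLocalization.Away.algebraMap_isUnit (algebraMap A D a)).pow n)
  have hf : ∀ c : C, f (algebraMap C _ c) = algebraMap D _ (ι c) := fun c => IsLocalization.lift_eq _ c
  have hua : IsUnit (algebraMap A (Localization.Away (algebraMap A D a)) a) :=
    (IsScalarTower.algebraMap_apply A D (Localization.Away (algebraMap A D a)) a) ▸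
      IsLocalization.Away.algebraMap_isUnit (algebraMap A D a)
  refine Algebra.Etale.of_equiv (AlgEquiv.ofBijective f ⟨?_, ?_⟩)
  · rw [injective_iff_map_eq_zero]
    intro x hx
    obtain ⟨⟨c, _, n, rfl⟩, hc⟩ := IsLocalization.surj (Submonoid.powers (algebraMap A C a)) x
    have h1 := congrArg f hc
    rw [map_mul, hx, zero_mul, hf] at h1
    obtain ⟨⟨_, m, rfl⟩, hm⟩ := (IsLocalization.map_eq_zero_iff (Submonoid.powers (algebraMap A D a)) _ _).mp h1.symm
    have h2 : ι (a ^ m • c) = 0 := by
      rw [map_smul, Algebra.smul_def, map_pow]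
      exact hm
    obtain ⟨k, hk⟩ := hker _ h2 a ha
    have hc0 : algebraMap C (Localization.Away (algebraMap A C a)) c = 0 := by
      rw [IsLocalization.map_eq_zero_iff (Submonoid.powers (algebraMap A C a))]
      refine ⟨⟨_, k + m, rfl⟩, ?_⟩
      show algebraMap A C a ^ (k + m) * c = 0
      rw [← map_pow, ← Algebra.smul_def, pow_add, ← smul_smul, hk]
    exact (IsLocalization.map_units _ _).mul_left_eq_zero.mp (hc.trans hc0)
  · intro y
    obtain ⟨⟨d, _, n, rfl⟩, hd⟩ := IsLocalization.surj (Submonoid.powers (algebraMap A D a)) y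
    obtain ⟨N, c, hc⟩ := hsurj a ha d
    refine ⟨IsLocalization.mk' (Localization.Away (algebraMap A C a)) c
      ⟨algebraMap A C a ^ (N + n), (Submonoid.mem_powers_iff _ _).mpr ⟨N + n, rfl⟩⟩, (hua.pow (N + n)).mul_left_cancel ?_⟩
    have h1 := congrArg f (IsLocalization.mk'_spec (Localization.Away (algebraMap A C a)) c
      (⟨algebraMap A C a ^ (N + n), (Submonoid.mem_powers_iff _ _).mpr ⟨N + n, rfl⟩⟩ : Submonoid.powers (algebraMap A C a)))
    simp only [map_mul, hf, map_pow, AlgHom.commutes] at h1
    rw [mul_comm, ← IsScalarTower.algebraMap_apply] at h1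
    rw [h1, ← hc, Algebra.smul_def, map_mul, ← IsScalarTower.algebraMap_apply, map_pow]
    simp only [map_pow, ← IsScalarTower.algebraMap_apply] at hd
    rw [← hd, pow_add]
    ring

end Groth.Agent.H18Pur
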