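import Mathlib
import Groth.Agent.H18Pur.Section
import Groth.Agent.H18Pur.LocalDomain
import Groth.Agent.H4Conn.Apps
import Groth.Agent.H4Depth.Regular
import Groth.Agent.H05EGA4.IntegralDim
import Groth.Agent.H05EGA4.CompleteNormalization
import Groth.Agent.H06EGA14.FiniteSection
import Groth.Agent.H9Hens.Local
import Groth.Agent.H9Hens.Pair
import Groth.Agent.H9Hens.SchemeSections
import Groth.Agent.H9Hens.BranchNormal

/-!
# The inductive step of purity over a complete strictly henselian regular local ring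
-/

set_option autoImplicit false

universe u

open IsLocalRing TensorProduct nonZeroDivisors

namespace Groth.Agent.H18Pur

/-- A finite unramified local algebra over a local ring with separably closed residue field. -/
theorem surjective_of_unramified (A D : Type u) [CommRing A] [IsLocalRing A] [CommRing D] [IsLocalRing D]
    [Algebra A D] [Module.Finite A D] [Algebra.FormallyUnramified A D] [IsSepClosed (ResidueField A)] :
    Function.Surjective (algebraMap A D) := by
  haveI : IsLocalHom (algebraMap A D) := ((local_hom_TFAE (algebraMap A D)).out 0 2).mpr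
    H05EGA4.map_le_maximalIdeal_of_finite
  haveI : Algebra.EssFiniteType A D := inferInstance
  have hres := IsSepClosed.algebraMap_surjective (ResidueField A) (ResidueField D)
  let V : Submodule A D := LinearMap.range (Algebra.linearMap A D)
  suffices ⊤ ≤ V from fun d => this Submodule.mem_top
  refine Submodule.le_of_le_smul_of_le_jacobson_bot Module.Finite.fg_top (maximalIdeal_le_jacobson _) fun d _ => ?_
  obtain ⟨r, hr⟩ := hres (residue D d)
  obtain ⟨a, rfl⟩ := residue_surjective r
  rw [ResidueField.algebraMap_residue, ← sub_eq_zero, ← map_sub, residue_eq_zero_iff,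
    ← Algebra.FormallyUnramified.map_maximalIdeal (R := A) (S := D)] at hr
  refine Submodule.mem_sup.mpr ⟨algebraMap A D a, ⟨a, rfl⟩, -(algebraMap A D a - d), neg_mem ?_, by ring⟩
  rw [Ideal.smul_top_eq_map]
  exact hr

/-- A finite algebra over a henselian local ring is local or has a nontrivial idempotent. -/
theorem isLocalRing_or_idem (A D : Type u) [CommRing A] [HenselianLocalRing A] [CommRing D] [Nontrivial D]
    [Algebra A D] [Module.Finite A D] :
    IsLocalRing D ∨ ∃ e : D, IsIdempotentElem e ∧ e ≠ 0 ∧ e ≠ 1 := by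
  haveI := H9Hens.henselianRing_maximalIdeal A
  obtain ⟨n, hn⟩ := Ideal.exists_maximal D
  by_cases h : ∀ n' : Ideal D, n'.IsMaximal → n' = n
  · exact .inl (IsLocalRing.of_unique_max_ideal ⟨n, hn, h⟩)
  push Not at h
  obtain ⟨n', hn', hne⟩ := h
  obtain ⟨e, he, hen, hen'⟩ := H9Hens.exists_idem_isolating (R := A)
    (fun b hb => H9Hens.exists_idem_lift (I := maximalIdeal A) b hb) (⟨n, hn⟩ : MaximalSpectrum D)
  refine .inr ⟨e, he, fun h0 => hen (h0 ▸ zero_mem _), fun h1 => hn'.ne_top ((Ideal.eq_top_iff_one _).mpr ?_)⟩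
  exact h1 ▸ hen' ⟨n', hn'⟩ (fun e' => hne (congrArg MaximalSpectrum.asIdeal e'))

/-- The inductive step: over a complete strictly henselian regular local ring, a local finite algebra of
depth two, étale on the punctured spectrum, is the base itself. -/
theorem surjective_of_local (A : Type u) [CommRing A] [IsRegularLocalRing A] [IsAdicComplete (maximalIdeal A) A]
    [IsSepClosed (ResidueField A)] (n : ℕ) (hn : ringKrullDim A = n) (hn3 : 3 ≤ n)
    (IH : ∀ (A₀ : Type u) [CommRing A₀] [IsRegularLocalRing A₀], ringKrullDim A₀ = ((n - 1 : ℕ) : WithBot ℕ∞) →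
      ∀ (D : Type u) [CommRing D] [Algebra A₀ D] [Module.Finite A₀ D], Sat A₀ D → EtOff A₀ D → Algebra.Etale A₀ D)
    (C : Type u) [CommRing C] [Algebra A C] [Module.Finite A C] [IsLocalRing C] (hS : Sat A C) (hE : EtOff A C) :
    Function.Surjective (algebraMap A C) := by
  classical
  haveI : IsDomain A := H4Depth.isDomain_of_isRegularLocalRing A
  haveI : IsIntegrallyClosed A := H05EGA4.isIntegrallyClosed_of_isRegularLocalRing A
  haveI : IsDomain C := hE.isDomain hS
  have hinjAC : Function.Injective (algebraMap A C) := hE.injective hS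
  haveI : IsNoetherianRing C := IsNoetherianRing.of_finite A C
  haveI : Algebra.FinitePresentation A C := Algebra.FinitePresentation.of_finiteType.mp inferInstance
  obtain ⟨_, hCc⟩ := H05EGA4.isAdicComplete_of_finite_domain (A := A) (A' := C)
  haveI := hCc
  -- a parameter `f`
  obtain ⟨d, x, hd, hx⟩ := H4Depth.exists_regular_system_of_parameters A
  have hdn : d = n := by exact_mod_cast hd.symm.trans hn
  subst hdn
  let i₀ : Fin d := ⟨0, by omega⟩
  let i₁ : Fin d := ⟨1, by omega⟩
  obtain ⟨hreg0, hdim0⟩ := H4Depth.exists_regular_quotient_of_subset d hn x hx {i₀}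
  let F : Ideal A := Ideal.span (x '' (({i₀} : Finset (Fin d)) : Set (Fin d)))
  let f : A := x i₀
  have hF : F = Ideal.span {f} := by simp [F, f]
  haveI := hreg0
  let A₀ := A ⧸ F
  have hdim : ringKrullDim A₀ = ((d - 1 : ℕ) : WithBot ℕ∞) := by simpa [Finset.card_singleton] using hdim0
  haveI : IsAdicComplete (maximalIdeal A₀) A₀ := H4Conn.isAdicComplete_quotient F
  haveI : HenselianLocalRing A₀ := H06EGA14.henselianLocalRing_of_adicComplete A₀
  haveI : IsDomain A₀ := H4Depth.isDomain_of_isRegularLocalRing A₀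
  have hq : Function.Surjective (algebraMap A A₀) := Ideal.Quotient.mk_surjective
  haveI : IsLocalHom (algebraMap A A₀) := ((local_hom_TFAE (algebraMap A A₀)).out 0 2).mpr
    (IsLocalRing.map_maximalIdeal_of_surjective _ hq).le
  haveI : IsSepClosed (ResidueField A₀) := by
    let g := ResidueField.map (algebraMap A A₀)
    have hg : Function.Surjective g := fun z => by
      obtain ⟨w, rfl⟩ := residue_surjective z
      obtain ⟨a, rfl⟩ := hq w
      exact ⟨residue A a, ResidueField.map_residue _ _⟩
    exact H9Hens.isSepClosed_of_ringEquiv (RingEquiv.ofBijective g ⟨g.injective, hg⟩)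
  have hfm : f ∈ maximalIdeal A := hx ▸ Ideal.subset_span ⟨i₀, rfl⟩
  have hmap : (maximalIdeal A).map (algebraMap A A₀) = maximalIdeal A₀ :=
    IsLocalRing.map_maximalIdeal_of_surjective _ hq
  have hm0 : maximalIdeal A₀ ≠ ⊥ := by
    intro h0
    have : IsField A₀ := isField_iff_maximalIdeal_eq.mpr h0
    rw [ringKrullDim_eq_zero_of_isField this] at hdim
    have : (d - 1 : ℕ) = 0 := by exact_mod_cast hdim.symm
    omega
  have hA₀ : Sat A₀ A₀ := by
    refine sat_of_two_le_depth ?_ fun s hs u v huv => mul_left_cancel₀ hs huv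
    have := H4Depth.depth_self_eq_ringKrullDim_of_regular A₀
    rw [hdim] at this
    have h2 : LocCoh.depth A₀ A₀ = ((d - 1 : ℕ) : ℕ∞) := WithBot.coe_injective (this.trans rfl)
    rw [h2]
    exact_mod_cast (by omega : 2 ≤ d - 1)
  -- the algebra modulo `f`
  have hE₀ : EtOff A₀ (A₀ ⊗[A] C) := hE.baseChange A₀ (hmap ▸ Ideal.le_radical)
  obtain ⟨D, _, _, _, ι, hSD, hregD, hED, hsurjD, hkerD⟩ := exists_sections A₀ hA₀ (A₀ ⊗[A] C) hE₀
  haveI := IH A₀ hdim D hSD hED
  let π : C →+* D := ι.toRingHom.comp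
    (Algebra.TensorProduct.includeRight : C →ₐ[A] A₀ ⊗[A] C).toRingHom
  have hπalg : ∀ a : A, π (algebraMap A C a) = algebraMap A₀ D (algebraMap A A₀ a) := fun a => by
    show ι ((1 : A₀) ⊗ₜ[A] algebraMap A C a) = _
    rw [show (1 : A₀) ⊗ₜ[A] algebraMap A C a = algebraMap A₀ (A₀ ⊗[A] C) (algebraMap A A₀ a) from
      ((Algebra.TensorProduct.includeRight (R := A) (A := A₀) (B := C)).commutes a).trans
        (IsScalarTower.algebraMap_apply A A₀ (A₀ ⊗[A] C) a), AlgHom.commutes]
  have hsurjC : ∀ z : A₀ ⊗[A] C, ∃ c : C, (1 : A₀) ⊗ₜ[A] c = z :=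
    fun z => Algebra.TensorProduct.includeRight_surjective C hq z
  have hker0 : ∀ c : C, (1 : A₀) ⊗ₜ[A] c = 0 → ∃ c' : C, c = algebraMap A C f * c' := by
    intro c hc
    let e := TensorProduct.quotTensorEquivQuotSMul C F
    have h1 : e ((1 : A₀) ⊗ₜ[A] c) = 0 := by rw [hc, map_zero]
    rw [show (1 : A₀) = Ideal.Quotient.mk F 1 from rfl, TensorProduct.quotTensorEquivQuotSMul_mk_tmul, one_smul,
      Submodule.Quotient.mk_eq_zero, hF, Submodule.ideal_span_singleton_smul,
      Submodule.mem_smul_pointwise_iff_exists] at h1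
    obtain ⟨c', -, hc'⟩ := h1
    exact ⟨c', by rw [← hc', Algebra.smul_def]⟩
  have hfilt : ∀ c : C, π c = 0 → ∀ a ∈ maximalIdeal A, ∃ (k : ℕ) (c' : C),
      algebraMap A C a ^ k * c = algebraMap A C f * c' := by
    intro c hc a ha
    obtain ⟨k, hk⟩ := hkerD _ hc (algebraMap A A₀ a) (hmap ▸ Ideal.mem_map_of_mem _ ha)
    refine ⟨k, hker0 _ ?_⟩
    rw [← hk, ← map_pow (algebraMap A A₀), algebraMap_smul]
    show _ = a ^ k • ((1 : A₀) ⊗ₜ[A] c)
    rw [← TensorProduct.tmul_smul, Algebra.smul_def, map_pow]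
  have hlift : ∀ a ∈ maximalIdeal A, ∀ y : D, ∃ (N : ℕ) (c : C),
      π c = algebraMap A₀ D (algebraMap A A₀ a) ^ N * y := by
    intro a ha y
    obtain ⟨N, z, hz⟩ := hsurjD (algebraMap A A₀ a) (hmap ▸ Ideal.mem_map_of_mem _ ha) y
    obtain ⟨c, rfl⟩ := hsurjC z
    exact ⟨N, c, by rw [show π c = ι ((1 : A₀) ⊗ₜ[A] c) from rfl, ← hz, Algebra.smul_def, map_pow]⟩
  -- an element off `(f)`
  let b : A := x i₁
  have hbm : b ∈ maximalIdeal A := hx ▸ Ideal.subset_span ⟨i₁, rfl⟩
  have hb0 : algebraMap A A₀ b ≠ 0 := by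
    intro hb
    have hbF : b ∈ F := Ideal.Quotient.eq_zero_iff_mem.mp hb
    obtain ⟨hreg1, hdim1⟩ := H4Depth.exists_regular_quotient_of_subset d hn x hx {i₀, i₁}
    have heq : Ideal.span (x '' (({i₀, i₁} : Finset (Fin d)) : Set (Fin d))) = F := by
      rw [Finset.coe_insert, Finset.coe_singleton, Set.image_insert_eq, Set.image_singleton, Ideal.span_insert, hF]
      refine sup_eq_left.mpr ((Ideal.span_singleton_le_iff_mem _).mpr ?_)
      rwa [← hF]
    have h2 : ringKrullDim A₀ = ((d - 2 : ℕ) : WithBot ℕ∞) := by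
      rw [show ringKrullDim A₀ = ringKrullDim (A ⧸ Ideal.span (x '' (({i₀, i₁} : Finset (Fin d)) : Set (Fin d))))
        from ringKrullDim_eq_of_ringEquiv (Ideal.quotEquivOfEq heq.symm), hdim1]
      rw [Finset.card_pair (by simp [i₀, i₁] : i₀ ≠ i₁)]
    have h3 : d - 1 = d - 2 := by exact_mod_cast hdim.symm.trans h2
    omega
  haveI : Nontrivial D := by
    by_contra hD
    rw [not_nontrivial_iff_subsingleton] at hD
    obtain ⟨k, c', hc'⟩ := hfilt 1 (Subsingleton.elim _ _) b hbm
    -- a prime of `C` over `(f)`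
    have hFp : F.IsPrime := (Ideal.Quotient.isDomain_iff_prime F).mp ‹IsDomain A₀›
    obtain ⟨Q, -, hQ, hQF⟩ := Ideal.exists_ideal_over_prime_of_isIntegral F (⊥ : Ideal C)
      (by rw [← RingHom.ker_eq_comap_bot, (RingHom.injective_iff_ker_eq_bot _).mp hinjAC]; exact bot_le)
    have hfQ : algebraMap A C f ∈ Q := Ideal.mem_comap.mp (hQF.symm ▸ (hF ▸ Ideal.mem_span_singleton_self f : f ∈ F))
    have : algebraMap A C b ^ k ∈ Q := by
      rw [mul_one] at hc'
      exact hc' ▸ Q.mul_mem_right _ hfQ
    exact hb0 (Ideal.Quotient.eq_zero_iff_mem.mpr (hQF ▸ Ideal.mem_comap.mpr (hQ.mem_of_pow_mem k this)))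
  rcases isLocalRing_or_idem A₀ D with hloc | ⟨e, he, he0, he1⟩
  · -- rank one
    have hDs := surjective_of_unramified A₀ D
    let Q := C ⧸ (LinearMap.range (Algebra.linearMap A C) : Submodule A C)
    have key : ∀ z : Q, ∃ k : ℕ, b ^ k • z ∈ (Ideal.span {f}) • (⊤ : Submodule A Q) := by
      intro z
      obtain ⟨c, rfl⟩ := Submodule.Quotient.mk_surjective _ z
      obtain ⟨r, hr⟩ := hDs (π c)
      obtain ⟨α, rfl⟩ := hq r
      obtain ⟨k, c', hc'⟩ := hfilt (c - algebraMap A C α) (by rw [map_sub, hπalg, hr, sub_self]) b hbm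
      refine ⟨k, ?_⟩
      have : b ^ k • (Submodule.Quotient.mk c : Q) = f • (Submodule.Quotient.mk c' : Q) := by
        rw [← Submodule.Quotient.mk_smul, ← Submodule.Quotient.mk_smul, Submodule.Quotient.eq]
        refine ⟨b ^ k * α, ?_⟩
        show algebraMap A C (b ^ k * α) = _
        rw [Algebra.smul_def, Algebra.smul_def, ← hc', map_mul, map_pow]
        ring
      rw [this]
      exact Submodule.smul_mem_smul (Ideal.mem_span_singleton_self f) Submodule.mem_top
    obtain ⟨T, hT⟩ := (Module.Finite.fg_top : (⊤ : Submodule A Q).FG)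
    choose k hk using key
    let M := T.sup k
    have hM : ∀ z : Q, b ^ M • z ∈ (Ideal.span {f}) • (⊤ : Submodule A Q) := by
      suffices (⊤ : Submodule A Q) ≤ ((Ideal.span {f}) • (⊤ : Submodule A Q)).comap (LinearMap.lsmul A Q (b ^ M))
        from fun z => this Submodule.mem_top
      rw [← hT, Submodule.span_le]
      intro t ht
      obtain ⟨j, hj⟩ := Nat.exists_eq_add_of_le (Finset.le_sup (f := k) ht)
      show b ^ M • t ∈ (Ideal.span {f}) • Submodule.span A (T : Set Q)
      rw [hT, show b ^ M = b ^ j * b ^ k t by rw [← pow_add]; congr 1; omega, mul_smul]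
      exact Submodule.smul_mem _ _ (hk t)
    obtain ⟨p, hpm, -, hpc, hp0⟩ := LinearMap.exists_monic_and_natDegree_eq_and_coeff_mem_pow_and_aeval_eq_zero
      A (LinearMap.lsmul A Q (b ^ M)) (Ideal.span {f}) (by rintro _ ⟨z, rfl⟩; exact hM z)
    let s : A := p.eval (b ^ M)
    have hs : ∀ z : Q, s • z = 0 := fun z => by
      have := LinearMap.congr_fun hp0 z
      rwa [show LinearMap.lsmul A Q (b ^ M) = algebraMap A (Module.End A Q) (b ^ M) from
        LinearMap.ext fun _ => rfl, Polynomial.aeval_algebraMap_apply_eq_algebraMap_eval] at this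
    have hs0 : algebraMap A A₀ s ≠ 0 := by
      rw [show algebraMap A A₀ s = Ideal.Quotient.mk F s from rfl]
      show Ideal.Quotient.mk F (p.eval (b ^ M)) ≠ 0
      rw [Polynomial.eval_eq_sum_range, Finset.sum_range_succ, map_add, map_sum, Finset.sum_eq_zero, zero_add,
        hpm.coeff_natDegree, one_mul, map_pow, map_pow]
      · exact pow_ne_zero _ (pow_ne_zero _ hb0)
      · intro i hi
        refine Ideal.Quotient.eq_zero_iff_mem.mpr (Ideal.mul_mem_right _ _ ?_)
        rw [hF]
        exact Ideal.pow_le_self (by have := Finset.mem_range.mp hi; omega) (hpc i)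
    have hs0' : s ≠ 0 := fun h => hs0 (by rw [h, map_zero])
    intro c
    obtain ⟨α, hα⟩ := (Submodule.Quotient.mk_eq_zero _).mp
      (by rw [Submodule.Quotient.mk_smul]; exact hs (Submodule.Quotient.mk c) :
        (Submodule.Quotient.mk (s • c) : Q) = 0)
    have hα' : algebraMap A C α = algebraMap A C s * c := hα.trans (Algebra.smul_def s c)
    let K := FractionRing A
    let L := FractionRing C
    letI : Algebra K L := (IsFractionRing.lift (A := A)
      (g := (algebraMap C L).comp (algebraMap A C)) ((IsFractionRing.injective C L).comp hinjAC)).toAlgebra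
    haveI : IsScalarTower A K L := IsScalarTower.of_algebraMap_eq fun a => by
      rw [RingHom.algebraMap_toAlgebra, IsFractionRing.lift_algebraMap]
      exact IsScalarTower.algebraMap_apply A C L a
    have hint : IsIntegral A (algebraMap A K α / algebraMap A K s) := by
      rw [← isIntegral_algebraMap_iff (algebraMap K L).injective]
      have hsL : algebraMap A L s ≠ 0 := by
        rw [IsScalarTower.algebraMap_apply A C L, map_ne_zero_iff _ (IsFractionRing.injective C L),
          map_ne_zero_iff _ hinjAC]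
        exact hs0'
      rw [map_div₀, ← IsScalarTower.algebraMap_apply, ← IsScalarTower.algebraMap_apply,
        show algebraMap A L α / algebraMap A L s = algebraMap C L c by
          rw [div_eq_iff hsL, IsScalarTower.algebraMap_apply A C L, IsScalarTower.algebraMap_apply A C L,
            hα', map_mul, mul_comm]]
      exact (Algebra.IsIntegral.isIntegral c).algebraMap
    obtain ⟨β, hβ⟩ := IsIntegrallyClosed.isIntegral_iff.mp hint
    refine ⟨β, ?_⟩
    have hαβ : α = s * β := IsFractionRing.injective A K (by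
      rw [map_mul, hβ, mul_div_cancel₀ _ ((map_ne_zero_iff _ (IsFractionRing.injective A K)).mpr hs0')])
    refine mul_left_cancel₀ ((map_ne_zero_iff _ hinjAC).mpr hs0') ?_
    rw [← map_mul, ← hαβ, hα']
  · -- the idempotent disconnects the punctured spectrum of `C/fC`
    exfalso
    choose N c hc using fun a : maximalIdeal A => hlift a.1 a.2 e
    choose N' c' hc' using fun a : maximalIdeal A => hlift a.1 a.2 (1 - e)
    let P := fun a : maximalIdeal A => algebraMap A₀ D (algebraMap A A₀ a.1)
    let U : Set (PrimeSpectrum C) := ⋃ a : maximalIdeal A, PrimeSpectrum.basicOpen (algebraMap A C a.1 * c a)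
    let V : Set (PrimeSpectrum C) := ⋃ a : maximalIdeal A, PrimeSpectrum.basicOpen (algebraMap A C a.1 * c' a)
    let I : Ideal C := Ideal.span {algebraMap A C f}
    have hI : I ≠ ⊤ := by
      refine ne_top_of_le_ne_top (maximalIdeal.isMaximal C).ne_top ((Ideal.span_singleton_le_iff_mem _).mpr ?_)
      exact H05EGA4.map_le_maximalIdeal_of_finite (Ideal.mem_map_of_mem _ hfm)
    have hcd : LocCoh.CdLE C I 1 := by
      simpa [I] using H4LC.cdLE_span_finset ({algebraMap A C f} : Finset C)
    have hdC : ringKrullDim C = d := ((H05EGA4.dim_int A C).2 hinjAC).trans hn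
    have hconn := H4Conn.isConnected_punctured d hdC 1 (by omega) I hI hcd
    set W := {y : PrimeSpectrum C | I ≤ y.asIdeal ∧ y.asIdeal ≠ maximalIdeal C}
    have hfW : ∀ {y}, y ∈ W → algebraMap A C f ∈ y.asIdeal := fun hy =>
      hy.1 (Ideal.mem_span_singleton_self _)
    have havoid : ∀ y ∈ W, ∃ a : maximalIdeal A, algebraMap A C a.1 ∉ y.asIdeal := by
      intro y hy
      by_contra! hall
      refine hy.2 (eq_maximalIdeal (Ideal.isMaximal_of_isIntegral_of_isMaximal_comap (R := A) _ ?_))
      rw [le_antisymm (le_maximalIdeal (Ideal.IsPrime.ne_top (Ideal.IsPrime.comap _))) fun a ha =>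
        Ideal.mem_comap.mpr (hall ⟨a, ha⟩)]
      exact maximalIdeal.isMaximal A
    have hzero : ∀ y ∈ W, ∀ a : maximalIdeal A, algebraMap A C a.1 ∉ y.asIdeal → ∀ z : C, π z = 0 → z ∈ y.asIdeal := by
      intro y hy a ha z hz
      obtain ⟨k, z', hz'⟩ := hfilt z hz a.1 a.2
      refine (y.isPrime.mem_or_mem (?_ : algebraMap A C a.1 ^ k * z ∈ y.asIdeal)).resolve_left
        fun h => ha (y.isPrime.mem_of_pow_mem k h)
      rw [hz']
      exact y.asIdeal.mul_mem_right _ (hfW hy)
    have hcover : W ⊆ U ∪ V := by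
      intro y hy
      obtain ⟨a, ha⟩ := havoid y hy
      by_contra hn'
      simp only [U, V, Set.mem_union, Set.mem_iUnion, SetLike.mem_coe, PrimeSpectrum.mem_basicOpen,
        not_or, not_exists, not_not] at hn'
      have h1 := (y.isPrime.mem_or_mem (hn'.1 a)).resolve_left ha
      have h2 := (y.isPrime.mem_or_mem (hn'.2 a)).resolve_left ha
      have hz : π (algebraMap A C a.1 ^ N' a * c a + algebraMap A C a.1 ^ N a * c' a -
          algebraMap A C a.1 ^ (N a + N' a)) = 0 := by
        simp only [map_sub, map_add, map_mul, map_pow, hπalg, hc, hc']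
        ring
      have h3 := hzero y hy a ha _ hz
      refine ha (y.isPrime.mem_of_pow_mem (N a + N' a) ?_)
      simpa using sub_mem (add_mem (y.asIdeal.mul_mem_left (algebraMap A C a.1 ^ N' a) h1)
        (y.asIdeal.mul_mem_left (algebraMap A C a.1 ^ N a) h2)) h3
    have hne : ∀ (cc : maximalIdeal A → C) (NN : maximalIdeal A → ℕ) (ε : D), ε ≠ 0 → IsIdempotentElem ε →
        (∀ a, π (cc a) = P a ^ NN a * ε) →
        (W ∩ ⋃ a : maximalIdeal A, (PrimeSpectrum.basicOpen (algebraMap A C a.1 * cc a) : Set (PrimeSpectrum C))).Nonempty := by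
      intro cc NN ε hε hεi hcc
      by_contra hemp
      rw [Set.not_nonempty_iff_eq_empty] at hemp
      let a : maximalIdeal A := ⟨b, hbm⟩
      have hrad : algebraMap A C a.1 * cc a ∈ I.radical := by
        rw [Ideal.radical_eq_sInf, Submodule.mem_sInf]
        rintro q ⟨hIq, hqp⟩
        by_contra hnq
        have hqW : (⟨q, hqp⟩ : PrimeSpectrum C) ∈ W := ⟨hIq, fun h => hnq (Ideal.mul_mem_right _ _
          (show algebraMap A C a.1 ∈ q by
            rw [show q = maximalIdeal C from h]; exact H05EGA4.map_le_maximalIdeal_of_finite (Ideal.mem_map_of_mem _ a.2)))⟩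
        have : (⟨q, hqp⟩ : PrimeSpectrum C) ∈ (W ∩ ⋃ a : maximalIdeal A,
            (PrimeSpectrum.basicOpen (algebraMap A C a.1 * cc a) : Set (PrimeSpectrum C))) :=
          ⟨hqW, Set.mem_iUnion.mpr ⟨a, hnq⟩⟩
        rw [hemp] at this
        exact this
      obtain ⟨k, hk⟩ := hrad
      obtain ⟨z, hz⟩ := Ideal.mem_span_singleton.mp hk
      have hπf : π (algebraMap A C f) = 0 := by
        rw [hπalg, show algebraMap A A₀ f = 0 from
          Ideal.Quotient.eq_zero_iff_mem.mpr (hF ▸ Ideal.mem_span_singleton_self f), map_zero]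
      have h0 : π ((algebraMap A C a.1 * cc a) ^ (k + 1)) = 0 := by
        rw [pow_succ, hz, map_mul, map_mul, hπf, zero_mul, zero_mul]
      rw [map_pow, map_mul, hπalg, hcc, ← mul_assoc, mul_pow, hεi.pow_succ_eq, ← pow_succ', ← pow_mul,
        ← map_pow, ← Algebra.smul_def] at h0
      exact hε (hregD _ (pow_ne_zero _ hb0) (h0.trans (smul_zero _).symm))
    obtain ⟨y, hy, hyU, hyV⟩ := hconn.2 U V
      (isOpen_iUnion fun a => PrimeSpectrum.basicOpen (algebraMap A C a.1 * c a) |>.isOpen)
      (isOpen_iUnion fun a => PrimeSpectrum.basicOpen (algebraMap A C a.1 * c' a) |>.isOpen) hcover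
      (hne c N e he0 he hc) (hne c' N' (1 - e) (sub_ne_zero.mpr (Ne.symm he1)) he.one_sub hc')
    obtain ⟨a, hya⟩ := Set.mem_iUnion.mp hyU
    obtain ⟨a', hya'⟩ := Set.mem_iUnion.mp hyV
    have hz : π (c a * c' a') = 0 := by
      rw [map_mul, hc, hc', show ∀ u v : D, u * e * (v * (1 - e)) = u * v * (e * (1 - e)) from
        fun u v => by ring, mul_sub, mul_one, he.eq, sub_self, mul_zero]
    have hna : algebraMap A C a.1 ∉ y.asIdeal := fun h => hya (y.asIdeal.mul_mem_right _ h)
    rcases y.isPrime.mem_or_mem (hzero y hy a hna _ hz) with h | h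
    · exact hya (y.asIdeal.mul_mem_left _ h)
    · exact hya' (y.asIdeal.mul_mem_left _ h)

end Groth.Agent.H18Pur
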