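import Mathlib
import Groth.Agent.H18Pur.Step
import Groth.Agent.H18Et.PurityFlat
import Groth.Agent.H1CAlg.FlatDepthModule
import Groth.Agent.H05EGA4.Regular2
import Groth.Agent.H05EGA4.Completion
import Groth.Agent.H02CA.CompletionFlat
import Groth.Agent.S0605
import Groth.Agent.S2363

/-!
# Purity: finite, depth two, étale on the punctured spectrum of a regular local ring implies étale
-/

set_option autoImplicit false

universe u

open IsLocalRing TensorProduct

namespace Groth.Agent.H18Pur

/-- A regular local ring has a flat local extension of the same dimension which is regular, complete, with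
separably closed residue field. -/
theorem exists_completeStrict (A : Type u) [CommRing A] [IsRegularLocalRing A] :
    ∃ (B : Type u) (_ : CommRing B) (_ : IsRegularLocalRing B) (_ : IsAdicComplete (maximalIdeal B) B)
      (_ : IsSepClosed (ResidueField B)) (_ : Algebra A B), Module.FaithfullyFlat A B ∧
      IsLocalHom (algebraMap A B) ∧ (maximalIdeal A).map (algebraMap A B) = maximalIdeal B ∧
      ringKrullDim B = ringKrullDim A := by
  let K := AlgebraicClosure (ResidueField A)
  obtain ⟨B₁, _, _, _, _, hloc, hflat, e, -⟩ := S2363.result (A := A) K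
  haveI := hloc
  haveI := hflat
  have hmax : (maximalIdeal A).map (algebraMap A B₁) = maximalIdeal B₁ := by
    refine eq_maximalIdeal ?_
    rw [Ideal.Quotient.maximal_ideal_iff_isField_quotient]
    exact e.toMulEquiv.isField (Field.toIsField K)
  haveI := H05EGA4.isRegularLocalRing_of_flat_of_map_eq A B₁ hmax
  let B := AdicCompletion (maximalIdeal B₁) B₁
  have hfg : (maximalIdeal B₁).FG := IsNoetherian.noetherian _
  haveI : IsRegularLocalRing B := H02CA.isRegularLocalRing_adicCompletion B₁
  have hmB : maximalIdeal B = (maximalIdeal B₁).map (algebraMap B₁ B) :=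
    AdicCompletion.maximalIdeal_eq_map_of_fg hfg
  haveI : IsAdicComplete (maximalIdeal B) B := by
    rw [hmB]
    exact AdicCompletion.isAdicComplete_self (maximalIdeal B₁) hfg
  haveI : IsSepClosed (ResidueField B) := by
    let g : B →+* K := (e.toRingHom.comp (Ideal.quotEquivOfEq hmax.symm).toRingHom).comp
      (AdicCompletion.evalOneₐ (maximalIdeal B₁)).toRingHom
    have hg : Function.Surjective g := fun y => by
      obtain ⟨q, hq⟩ := ((Ideal.quotEquivOfEq hmax.symm).trans e).surjective y
      obtain ⟨p, rfl⟩ := Ideal.Quotient.mk_surjective q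
      exact ⟨algebraMap B₁ B p, hq⟩
    have hker : RingHom.ker g = maximalIdeal B :=
      haveI := RingHom.ker_isMaximal_of_surjective g hg
      eq_maximalIdeal inferInstance
    haveI : IsSepClosed K := inferInstance
    exact H9Hens.isSepClosed_of_ringEquiv (((Ideal.quotEquivOfEq hker.symm).trans
      (RingHom.quotientKerEquivOfSurjective hg)).symm : K ≃+* ResidueField B)
  haveI : Module.Flat B₁ B := AdicCompletion.flat_of_isNoetherian _
  haveI : Module.Flat A B := Module.Flat.trans A B₁ B
  have hmap : (maximalIdeal A).map (algebraMap A B) = maximalIdeal B := by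
    rw [hmB, IsScalarTower.algebraMap_eq A B₁ B, ← Ideal.map_map, hmax]
  haveI hlocB : IsLocalHom (algebraMap A B) := ((local_hom_TFAE (algebraMap A B)).out 0 2).mpr hmap.le
  refine ⟨B, inferInstance, inferInstance, inferInstance, inferInstance, inferInstance,
    Module.FaithfullyFlat.of_flat_of_isLocalHom, hlocB, hmap, ?_⟩
  rw [H05EGA4.ringKrullDim_adicCompletion, H05EGA4.ringKrullDim_eq_add_of_flat A B₁]
  haveI : Nontrivial (B₁ ⧸ (maximalIdeal A).map (algebraMap A B₁)) := e.toEquiv.nontrivial
  rw [ringKrullDim_eq_zero_of_isField (e.toMulEquiv.isField (Field.toIsField K)), add_zero]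

variable {A : Type u} [CommRing A] [IsRegularLocalRing A]

/-- Over a complete strictly henselian base, from the local case. -/
theorem etale_of_complete [IsAdicComplete (maximalIdeal A) A] [IsSepClosed (ResidueField A)]
    (n : ℕ) (hn : ringKrullDim A = n) (hn3 : 3 ≤ n)
    (IH : ∀ (A₀ : Type u) [CommRing A₀] [IsRegularLocalRing A₀], ringKrullDim A₀ = ((n - 1 : ℕ) : WithBot ℕ∞) →
      ∀ (D : Type u) [CommRing D] [Algebra A₀ D] [Module.Finite A₀ D], Sat A₀ D → EtOff A₀ D → Algebra.Etale A₀ D)
    (C : Type u) [CommRing C] [Algebra A C] [Module.Finite A C] (hS : Sat A C) (hE : EtOff A C) :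
    Algebra.Etale A C := by
  classical
  haveI : IsDomain A := H4Depth.isDomain_of_isRegularLocalRing A
  haveI : IsNoetherianRing C := IsNoetherianRing.of_finite A C
  haveI : Algebra.FinitePresentation A C := Algebra.FinitePresentation.of_finiteType.mp inferInstance
  haveI : HenselianLocalRing A := H06EGA14.henselianLocalRing_of_adicComplete A
  haveI := H9Hens.henselianRing_maximalIdeal A
  haveI := H9Hens.finite_maximalSpectrum (R := A) C
  have hbij := H9Hens.toPiLocalization_bijective_of_idem_lift (R := A) (B := C)
    (fun b hb => H9Hens.exists_idem_lift (I := maximalIdeal A) b hb)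
  let P := fun M : MaximalSpectrum C => Localization.AtPrime M.asIdeal
  let φ : C →ₐ[A] (Π M : MaximalSpectrum C, P M) :=
    { MaximalSpectrum.toPiLocalization C with
      commutes' := fun r => funext fun M => (IsScalarTower.algebraMap_apply A C (P M) r).symm }
  let e : C ≃ₐ[A] (Π M, P M) := AlgEquiv.ofBijective φ hbij
  haveI : ∀ M, Algebra.FormallyEtale A (P M) := by
    intro M
    let p : C →ₗ[A] P M := (LinearMap.proj M).comp e.toLinearEquiv.toLinearMap
    let i : P M →ₗ[A] C := e.symm.toLinearEquiv.toLinearMap.comp (LinearMap.single A P M)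
    have hpi : ∀ y, p (i y) = y := fun y => by
      show e (e.symm (Pi.single M y)) M = y
      rw [AlgEquiv.apply_symm_apply, Pi.single_eq_same]
    have hps : Function.Surjective p := fun y => ⟨i y, hpi y⟩
    haveI : Module.Finite A (P M) := Module.Finite.of_surjective p hps
    have hSM : Sat A (P M) := hS.of_retract i p hpi
    haveI : IsNoetherianRing (P M) := IsNoetherianRing.of_finite A (P M)
    haveI : Algebra.FinitePresentation A (P M) := Algebra.FinitePresentation.of_finiteType.mp inferInstance
    have hEM : EtOff A (P M) := etOff_of_primes fun q hq hne => by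
      haveI : IsLocalization.AtPrime (Localization.AtPrime q) (q.comap (algebraMap C (P M))) :=
        IsLocalization.isLocalization_isLocalization_atPrime_isLocalization M.asIdeal.primeCompl _ q
      haveI : Algebra.FormallyEtale A (Localization.AtPrime (q.comap (algebraMap C (P M)))) := by
        refine isEtaleAt_of_ne hE _ fun h => hne ?_
        rw [← h, Ideal.comap_comap, ← IsScalarTower.algebraMap_eq]
      exact Algebra.FormallyEtale.of_equiv ((IsLocalization.algEquiv (q.comap (algebraMap C (P M))).primeCompl
        (Localization.AtPrime (q.comap (algebraMap C (P M)))) (Localization.AtPrime q)).restrictScalars A)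
    have hs := surjective_of_local A n hn hn3 IH (P M) hSM hEM
    have hb : Function.Bijective (Algebra.ofId A (P M)) := ⟨hEM.injective hSM, hs⟩
    exact Algebra.FormallyEtale.of_equiv (AlgEquiv.ofBijective (Algebra.ofId A (P M)) hb)
  haveI : Algebra.FormallyEtale A C := Algebra.FormallyEtale.of_equiv e.symm
  exact ⟨inferInstance, inferInstance⟩

/-- Purity, ring form. -/
theorem etale_of_sat : ∀ (n : ℕ) (A : Type u) [CommRing A] [IsRegularLocalRing A], ringKrullDim A = n → 2 ≤ n →
    ∀ (C : Type u) [CommRing C] [Algebra A C] [Module.Finite A C], Sat A C → EtOff A C → Algebra.Etale A C := by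
  intro n
  induction n using Nat.strong_induction_on with
  | _ n ih =>
  intro A _ _ hn hn2 C _ _ _ hS hE
  haveI : IsDomain A := H4Depth.isDomain_of_isRegularLocalRing A
  haveI : IsNoetherianRing C := IsNoetherianRing.of_finite A C
  haveI : Algebra.FinitePresentation A C := Algebra.FinitePresentation.of_finiteType.mp inferInstance
  have hdepthA : LocCoh.depth A A = (n : ℕ∞) :=
    WithBot.coe_injective (((H4Depth.depth_self_eq_ringKrullDim_of_regular A).trans hn).trans rfl)
  have hm : maximalIdeal A ≠ ⊥ := by
    intro h0
    rw [ringKrullDim_eq_zero_of_isField (isField_iff_maximalIdeal_eq.mpr h0)] at hn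
    have : n = 0 := by exact_mod_cast hn.symm
    omega
  have hdepth : 2 ≤ LocCoh.depth A C := hS.two_le_depth (hE.regular hS) hm
  rcases subsingleton_or_nontrivial C with hC | hC
  · rw [← Algebra.etaleLocus_eq_univ_iff_etale]
    exact Set.eq_univ_of_forall fun q => absurd (Subsingleton.elim (1 : C) 0)
      (fun h => q.isPrime.ne_top ((Ideal.eq_top_iff_one _).mpr (h ▸ zero_mem _)))
  rcases Nat.lt_or_eq_of_le hn2 with hn3 | rfl
  · obtain ⟨B, _, _, _, _, _, hff, hloc, hmap, hdim⟩ := exists_completeStrict A
    haveI := hff
    haveI := hloc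
    haveI : IsDomain B := H4Depth.isDomain_of_isRegularLocalRing B
    have hEB : EtOff B (B ⊗[A] C) := hE.baseChange B (hmap ▸ Ideal.le_radical)
    have hdB : 2 ≤ LocCoh.depth B (B ⊗[A] C) := by
      rw [H1CAlg.FlatDepthModule.depth_tensor]
      exact hdepth.trans le_self_add
    have hregB : ∀ s : B, s ≠ 0 → IsSMulRegular (B ⊗[A] C) s := fun s hs =>
      regular_of_one_le_depth (le_trans (by norm_num) hdB) fun x hx a ha => hEB.torsion hs hx ha
    haveI := etale_of_complete (A := B) n (hdim.trans hn) hn3
      (fun A₀ _ _ h0 D _ _ _ hSD hED => ih (n - 1) (by omega) A₀ h0 (by omega) D hSD hED)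
      (B ⊗[A] C) (sat_of_two_le_depth hdB hregB) hEB
    exact Algebra.Etale.of_etale_tensorProduct_of_faithfullyFlat (R := A) (T := B)
  · have hle := (H4Depth.depth_le_supportDim (R := A) (M := C)).trans (Module.supportDim_le_ringKrullDim A C)
    have heq : ((LocCoh.depth A C : ℕ∞) : WithBot ℕ∞) = ringKrullDim A := by
      refine le_antisymm hle ?_
      rw [hn]
      exact WithBot.coe_le_coe.mpr hdepth
    haveI := S0605.result A C heq
    refine H18Et.PurityFlat.etale_of_depth fun p hp => ?_
    by_cases hpm : p = maximalIdeal A
    · subst hpm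
      left
      let e : A ≃ₐ[A] Localization.AtPrime (maximalIdeal A) :=
        IsLocalization.atUnits A (maximalIdeal A).primeCompl
          (fun x hx => (IsUnit.mem_submonoid_iff x).mpr (by simpa [mem_maximalIdeal, Ideal.primeCompl] using hx))
      haveI : IsRegularLocalRing (Localization.AtPrime (maximalIdeal A)) :=
        IsRegularLocalRing.of_ringEquiv e.toRingEquiv
      refine WithBot.coe_le_coe.mp ?_
      rw [H4Depth.depth_self_eq_ringKrullDim_of_regular, ← ringKrullDim_eq_of_ringEquiv e.toRingEquiv, hn]
      exact le_rfl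
    · right
      intro q hq hqp
      exact isEtaleAt_of_ne hE q (hqp ▸ hpm)

end Groth.Agent.H18Pur
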