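import Mathlib
import Groth.Agent.H18Pur.Core
import Groth.Agent.H3CAlg.NoEmbedded

/-!
# Purity for an algebra of sections over an open subset of codimension two
-/

set_option autoImplicit false

universe u

open IsLocalRing TensorProduct nonZeroDivisors

namespace Groth.Agent.H18Pur

variable {A : Type u} [CommRing A] [IsNoetherianRing A] [IsDomain A] [IsIntegrallyClosed A] {ι : Type} [Finite ι]
  (a : ι → A)

/-- Elements of the fraction field in the base away from codimension two lie in the base. -/
theorem dvd_of_codimTwo (hht : ∀ p : Ideal A, p.IsPrime → (∀ i, a i ∈ p) → 2 ≤ p.height) {s c : A} (hs : s ≠ 0)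
    (h : ∀ i, ∃ N : ℕ, s ∣ a i ^ N * c) : s ∣ c := by
  by_contra hne
  have hx0 : (Ideal.Quotient.mk (Ideal.span {s}) c : A ⧸ Ideal.span {s}) ≠ 0 := fun h0 =>
    hne (Ideal.mem_span_singleton.mp (Ideal.Quotient.eq_zero_iff_mem.mp h0))
  obtain ⟨P, hP, hle⟩ := exists_le_isAssociatedPrime_of_isNoetherianRing (R := A) _ hx0
  have hh := H3CAlg.NoEmbedded.height_le_one_of_mem_associatedPrimes hs hP
  have h2 := hht P hP.isPrime fun i => by
    obtain ⟨N, hN⟩ := h i
    refine hP.isPrime.mem_of_pow_mem N (hle (Submodule.mem_colon_singleton.mpr ((Submodule.mem_bot A).mpr ?_)))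
    show Ideal.Quotient.mk (Ideal.span {s}) (a i ^ N * c) = 0
    rw [Ideal.Quotient.eq_zero_iff_mem, Ideal.mem_span_singleton]
    exact hN
  exact absurd (h2.trans hh) (by decide)

variable {R : Type u} [CommRing R] [Algebra A R]

/-- Finiteness of an algebra of sections over an open subset of codimension two. -/
theorem finite_of_codimTwo (hht : ∀ p : Ideal A, p.IsPrime → (∀ i, a i ∈ p) → 2 ≤ p.height)
    (hreg : ∀ s : A, s ≠ 0 → IsSMulRegular R s)
    (hfin : ∀ i, ∃ T : Finset R, ∀ z : R, ∃ N : ℕ, a i ^ N • z ∈ Submodule.span A (T : Set R)) :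
    Module.Finite A R := by
  classical
  cases nonempty_fintype ι
  by_cases hne : ∃ i, a i ≠ 0
  swap
  · push Not at hne
    exact absurd (hht ⊥ Ideal.isPrime_bot fun i => by simp [hne i]) (by rw [Ideal.height_bot]; decide)
  obtain ⟨i₀, hi₀⟩ := hne
  choose T hT using hfin
  let T' : Finset R := Finset.univ.biUnion T
  let W₀ : Submodule A R := Submodule.span A (T' : Set R)
  have hT' : ∀ i z, ∃ N : ℕ, a i ^ N • z ∈ W₀ := fun i z => (hT i z).imp fun N hN =>
    Submodule.span_mono (Finset.coe_subset.mpr (Finset.subset_biUnion_of_mem T (Finset.mem_univ i))) hN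
  let K := FractionRing A
  let L := LocalizedModule A⁰ R
  let j : R →ₗ[A] L := LocalizedModule.mkLinearMap A⁰ R
  have hj : Function.Injective j := by
    rw [injective_iff_map_eq_zero]
    intro z hz
    obtain ⟨⟨s, hs⟩, hsz⟩ := (IsLocalizedModule.eq_zero_iff A⁰ j).mp hz
    exact hreg s (nonZeroDivisors.ne_zero hs) (show s • z = s • 0 by rw [smul_zero]; exact hsz)
  haveI : Module.Finite K L := by
    refine ⟨⟨T'.image j, ?_⟩⟩
    rw [eq_top_iff]
    rintro v -
    obtain ⟨⟨z, s⟩, hzs⟩ := IsLocalizedModule.surj A⁰ j v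
    obtain ⟨N, hN⟩ := hT' i₀ z
    have h1 : j (a i₀ ^ N • z) ∈ Submodule.span K ((T'.image j : Finset L) : Set L) := by
      refine Submodule.span_le_restrictScalars A K _ ?_
      rw [Finset.coe_image, Submodule.span_image]
      exact Submodule.mem_map_of_mem hN
    rw [map_smul] at h1
    change (a i₀ ^ N) • j z ∈ _ at h1
    rw [show j z = (s : A) • v from hzs.symm, smul_smul, ← algebraMap_smul K] at h1
    exact (Submodule.smul_mem_iff _ ((map_ne_zero_iff _ (IsFractionRing.injective A K)).mpr
      (mul_ne_zero (pow_ne_zero _ hi₀) (nonZeroDivisors.ne_zero s.2)))).mp h1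
  let b := Module.Free.chooseBasis K L
  obtain ⟨⟨d₀, hd₀⟩, hd⟩ := IsLocalization.exist_integer_multiples_of_finite A⁰
    (fun p : T' × Module.Free.ChooseBasisIndex K L => b.repr (j p.1) p.2)
  have hd00 : algebraMap A K d₀ ≠ 0 :=
    (map_ne_zero_iff _ (IsFractionRing.injective A K)).mpr (nonZeroDivisors.ne_zero hd₀)
  let Φ : R →ₗ[A] (Module.Free.ChooseBasisIndex K L → K) :=
    ((((algebraMap A K d₀) • (LinearMap.id : (Module.Free.ChooseBasisIndex K L → K) →ₗ[K] _)).comp
      b.equivFun.toLinearMap).restrictScalars A).comp j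
  have hΦ : Function.Injective Φ := fun u v huv => hj (b.equivFun.injective (funext fun i => by
    have h2 : algebraMap A K d₀ * b.repr (j u) i = algebraMap A K d₀ * b.repr (j v) i := by
      simpa [Φ, Algebra.smul_def] using congrFun huv i
    simpa using mul_left_cancel₀ hd00 h2))
  let W : Submodule A (Module.Free.ChooseBasisIndex K L → K) :=
    LinearMap.range (LinearMap.pi fun i => (Algebra.linearMap A K).comp (LinearMap.proj i) :
      (Module.Free.ChooseBasisIndex K L → A) →ₗ[A] _)
  have hW : ∀ v, v ∈ W ↔ ∀ i, ∃ r : A, algebraMap A K r = v i := fun v =>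
    ⟨fun ⟨r, hr⟩ i => ⟨r i, by rw [← hr]; rfl⟩, fun hv => by
      choose r hr using hv
      exact ⟨r, funext hr⟩⟩
  have hgen : W₀ ≤ W.comap Φ := by
    rw [Submodule.span_le]
    intro t ht
    refine (hW _).mpr fun i => ?_
    obtain ⟨r, hr⟩ := hd (⟨t, ht⟩, i)
    refine ⟨r, hr.trans ?_⟩
    show d₀ • _ = _
    simp [Φ, Algebra.smul_def]
  have hall : ∀ z, Φ z ∈ W := by
    intro z
    refine (hW _).mpr fun k => ?_
    obtain ⟨⟨c, s, hs⟩, hcs⟩ := IsLocalization.surj A⁰ (Φ z k)
    obtain ⟨y, rfl⟩ := dvd_of_codimTwo a hht (nonZeroDivisors.ne_zero hs) (c := c) fun i => by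
      obtain ⟨N, hN⟩ := hT' i z
      obtain ⟨r, hr⟩ := (hW _).mp (hgen hN) k
      rw [map_smul, Pi.smul_apply, Algebra.smul_def] at hr
      refine ⟨N, r, IsFractionRing.injective A K ?_⟩
      simp only [map_mul, hr] at hcs ⊢
      rw [← hcs]
      ring
    refine ⟨y, mul_right_cancel₀ ((map_ne_zero_iff _ (IsFractionRing.injective A K)).mpr
      (nonZeroDivisors.ne_zero hs)) ?_⟩
    rw [map_mul] at hcs
    rw [hcs, mul_comm]
  haveI : IsNoetherian A W := isNoetherian_of_fg_of_noetherian W (Module.Finite.iff_fg.mp (Module.Finite.range _))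
  haveI : IsNoetherian A R := isNoetherian_of_injective (Φ.codRestrict W hall) fun u v h => hΦ (congrArg Subtype.val h)
  exact inferInstance

/-- An algebra of sections over an open subset of codimension two which is finite étale there is finite étale. -/
theorem etale_of_codimTwo [∀ (p : Ideal A) [p.IsPrime], IsRegularLocalRing (Localization.AtPrime p)]
    (hht : ∀ p : Ideal A, p.IsPrime → (∀ i, a i ∈ p) → 2 ≤ p.height)
    (hfin : ∀ i, ∃ T : Finset R, ∀ z : R, ∃ N : ℕ, a i ^ N • z ∈ Submodule.span A (T : Set R))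
    (het : ∀ i, Algebra.Etale A (Localization.Away (algebraMap A R (a i))))
    (h0 : ∀ z : R, (∀ i, ∃ N : ℕ, a i ^ N • z = 0) → z = 0)
    (hglue : ∀ s : A, s ≠ 0 → ∀ x : R, (∀ i, ∃ (N : ℕ) (y : R), a i ^ N • x = s • y) → ∃ y, x = s • y) :
    Module.Finite A R ∧ Algebra.Etale A R := by
  classical
  cases nonempty_fintype ι
  have hreg : ∀ s : A, s ≠ 0 → IsSMulRegular R s := fun s hs =>
    isSMulRegular_iff_right_eq_zero_of_smul.mpr fun x hx => h0 x fun i => by
      haveI := het i
      have hflat : IsSMulRegular (Localization.Away (algebraMap A R (a i))) (algebraMap A _ s) :=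
        IsSMulRegular.of_flat (show IsSMulRegular A s from fun u v huv => mul_left_cancel₀ hs huv)
      have hz : algebraMap R (Localization.Away (algebraMap A R (a i))) x = 0 := hflat (by
        show algebraMap A _ s • _ = algebraMap A _ s • _
        rw [smul_zero, smul_eq_mul]
        have hx' := congrArg (algebraMap R (Localization.Away (algebraMap A R (a i)))) hx
        rw [Algebra.smul_def, map_mul, map_zero, ← IsScalarTower.algebraMap_apply] at hx'
        exact hx')
      obtain ⟨⟨_, n, rfl⟩, hn⟩ := (IsLocalization.map_eq_zero_iff (Submonoid.powers (algebraMap A R (a i))) _ _).mp hz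
      exact ⟨n, by rw [Algebra.smul_def, map_pow]; exact hn⟩
  haveI := finite_of_codimTwo a hht hreg hfin
  refine ⟨inferInstance, ?_⟩
  haveI : Algebra.FinitePresentation A R := Algebra.FinitePresentation.of_finiteType.mp inferInstance
  rw [← Algebra.etaleLocus_eq_univ_iff_etale]
  suffices H : ∀ n : ℕ∞, ∀ (p : Ideal A) [p.IsPrime], p.height = n → ∀ (q : Ideal R) [q.IsPrime],
      q.comap (algebraMap A R) = p → Algebra.IsEtaleAt A q from
    Set.eq_univ_of_forall fun q => H _ (q.asIdeal.comap (algebraMap A R)) rfl q.asIdeal rfl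
  intro n
  induction n using WellFoundedLT.induction with
  | ind n ih =>
  intro p hp hpn q hq hqp
  by_cases hpa : ∀ i, a i ∈ p
  swap
  · push Not at hpa
    obtain ⟨i, hi⟩ := hpa
    have hmem : (⟨q, hq⟩ : PrimeSpectrum R) ∈
        (PrimeSpectrum.basicOpen (algebraMap A R (a i)) : Set (PrimeSpectrum R)) :=
      fun h => hi (hqp ▸ Ideal.mem_comap.mpr h)
    exact Algebra.basicOpen_subset_etaleLocus_iff_etale.mpr (het i) hmem
  let S' := Localization.AtPrime p
  let M := Algebra.algebraMapSubmonoid R p.primeCompl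
  let T' := Localization M
  letI : Algebra S' T' := localizationAlgebra p.primeCompl R
  haveI : IsScalarTower A S' T' := IsScalarTower.of_algebraMap_eq fun x => by
    rw [IsScalarTower.algebraMap_apply A R T']
    exact (IsLocalization.map_eq (M := p.primeCompl) (T := M) (Q := T') (g := algebraMap A R) _ x).symm
  haveI : Module.Finite S' T' := Module.Finite.of_isLocalization A R p.primeCompl
  obtain ⟨d, x, hd, -⟩ := H4Depth.exists_regular_system_of_parameters S'
  have hd2 : 2 ≤ d := by
    have := hht p hp hpa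
    have h2 : ((p.height : ℕ∞) : WithBot ℕ∞) = (d : WithBot ℕ∞) := by
      rw [← hd, IsLocalization.AtPrime.ringKrullDim_eq_height p S']
    have h3 : p.height = (d : ℕ∞) := WithBot.coe_injective (h2.trans rfl)
    rw [h3] at this
    exact_mod_cast this
  haveI : IsNoetherianRing T' := IsNoetherianRing.of_finite S' T'
  haveI : Algebra.FinitePresentation S' T' := Algebra.FinitePresentation.of_finiteType.mp inferInstance
  haveI : IsDomain S' := IsLocalization.isDomain_localization p.primeCompl_le_nonZeroDivisors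
  have hEt : EtOff S' T' := etOff_of_primes fun Q hQ hne => by
    rw [H18Et.PurityFlat.isEtaleAt_localization_iff (S := A) (T := R) p.primeCompl Q]
    set p' := (Q.comap (algebraMap R T')).comap (algebraMap A R)
    have hp' : p' = (Q.comap (algebraMap S' T')).comap (algebraMap A S') := by
      show (Q.comap (algebraMap R T')).comap (algebraMap A R) = _
      rw [Ideal.comap_comap, Ideal.comap_comap, ← IsScalarTower.algebraMap_eq A R T',
        ← IsScalarTower.algebraMap_eq A S' T']
    have hlt : p' < p := by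
      refine lt_of_le_of_ne ?_ fun e => hne ?_
      · exact hp'.le.trans ((Ideal.comap_mono (le_maximalIdeal (Ideal.IsPrime.ne_top (Ideal.IsPrime.comap _)))).trans
          (IsLocalization.AtPrime.comap_maximalIdeal S' p).le)
      · exact (IsLocalization.map_comap p.primeCompl S' _).symm.trans
          ((congrArg (Ideal.map (algebraMap A S')) (hp'.symm.trans e)).trans
            (IsLocalization.AtPrime.map_eq_maximalIdeal p S'))
    haveI : p'.IsPrime := Ideal.IsPrime.comap _
    exact ih p'.height (hpn ▸ Ideal.height_strict_mono_of_isPrime hlt) p' rfl _ rfl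
  have hregT : ∀ (s : A), s ≠ 0 → ∀ z : T', algebraMap A T' s * z = 0 → z = 0 := fun s hs z hz => by
    obtain ⟨⟨r, t⟩, hrt⟩ := IsLocalization.surj M z
    have h1 : algebraMap R T' (algebraMap A R s * r) = 0 := by
      rw [map_mul, ← hrt, ← IsScalarTower.algebraMap_apply, ← mul_assoc, hz, zero_mul]
    obtain ⟨⟨_, u, hu, rfl⟩, hu'⟩ := (IsLocalization.map_eq_zero_iff M T' _).mp h1
    have h2 : algebraMap A R u * r = 0 := hreg s hs (by
      show s • (algebraMap A R u * r) = s • 0
      rw [smul_zero, Algebra.smul_def]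
      linear_combination hu')
    have h3 : algebraMap R T' r = 0 := (IsLocalization.map_eq_zero_iff M T' r).mpr ⟨⟨_, u, hu, rfl⟩, h2⟩
    exact (IsLocalization.map_units T' t).mul_left_eq_zero.mp (hrt.trans h3)
  have hS : Sat S' T' := by
    refine ⟨fun z hz => ?_, fun s hs z hz => ?_⟩
    · have hm : maximalIdeal S' ≠ ⊥ := fun h => by
        rw [ringKrullDim_eq_zero_of_isField (isField_iff_maximalIdeal_eq.mpr h)] at hd
        have : d = 0 := by exact_mod_cast hd.symm
        omega
      obtain ⟨m, hm, hm0⟩ := Submodule.exists_mem_ne_zero_of_ne_bot hm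
      obtain ⟨⟨σ, u⟩, hσ⟩ := IsLocalization.surj p.primeCompl m
      have hσ0 : σ ≠ 0 := fun h => by
        rw [h, map_zero] at hσ
        exact hm0 ((IsLocalization.map_units S' u).mul_left_eq_zero.mp hσ)
      refine hregT σ hσ0 z ?_
      rw [IsScalarTower.algebraMap_apply A S' T', ← hσ, map_mul, mul_right_comm, ← Algebra.smul_def, hz m hm, zero_mul]
    · obtain ⟨⟨σ, u⟩, hσ⟩ := IsLocalization.surj p.primeCompl s
      obtain ⟨⟨r, t⟩, hrt⟩ := IsLocalization.surj M z
      have hσ0 : σ ≠ 0 := fun h => by
        rw [h, map_zero] at hσ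
        exact hs ((IsLocalization.map_units S' u).mul_left_eq_zero.mp hσ)
      have hstep : ∀ i, ∃ w ∈ p.primeCompl, ∃ y : R, w • (a i • r) = σ • y := by
        intro i
        obtain ⟨y, hy⟩ := hz (algebraMap A S' (a i)) (by
          rw [← IsLocalization.AtPrime.map_eq_maximalIdeal p S']
          exact Ideal.mem_map_of_mem _ (hpa i))
        obtain ⟨⟨y', v⟩, hyv⟩ := IsLocalization.surj M y
        obtain ⟨_, v', hv', rfl⟩ := v
        obtain ⟨_, t', ht', ht''⟩ := t
        obtain ⟨u', hu'⟩ := u
        have h1 : algebraMap R T' (algebraMap A R (u' * v') * (algebraMap A R (a i) * r)) =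
            algebraMap R T' (algebraMap A R (σ * t') * y') := by
          simp only [map_mul, ← hrt, ← hyv, ← IsScalarTower.algebraMap_apply]
          rw [IsScalarTower.algebraMap_apply A S' T' σ, ← hσ, map_mul, ← IsScalarTower.algebraMap_apply,
            ← ht'', ← IsScalarTower.algebraMap_apply, Algebra.smul_def, Algebra.smul_def,
            ← IsScalarTower.algebraMap_apply] at *
          linear_combination (algebraMap A T' u' * algebraMap A T' v' * algebraMap A T' t') * hy
        obtain ⟨⟨_, w, hw, rfl⟩, hw'⟩ := (IsLocalization.eq_iff_exists M T').mp h1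
        refine ⟨w * (u' * v'), mul_mem hw (mul_mem hu' hv'), algebraMap A R (w * t') * y', ?_⟩
        simp only [Algebra.smul_def, map_mul] at hw' ⊢
        linear_combination hw'
      choose w hw y hy using hstep
      let W := ∏ i, w i
      have hW : W ∈ p.primeCompl := prod_mem fun i _ => hw i
      obtain ⟨y₀, hy₀⟩ := hglue σ hσ0 (W • r) fun i => ⟨1, (∏ k ∈ Finset.univ.erase i, w k) • y i, by
        rw [pow_one, smul_comm σ, ← hy]
        show a i • (∏ k, w k) • r = _
        rw [← Finset.mul_prod_erase _ _ (Finset.mem_univ i)]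
        simp only [smul_smul]
        congr 1
        ring⟩
      have hWu : IsUnit (algebraMap A T' W) := by
        rw [IsScalarTower.algebraMap_apply A S' T']
        exact (IsLocalization.map_units S' ⟨W, hW⟩).map _
      obtain ⟨tu, htu⟩ := IsLocalization.map_units T' t
      refine ⟨algebraMap A T' u * algebraMap R T' y₀ * ↑hWu.unit⁻¹ * ↑tu⁻¹, ?_⟩
      have hy₁ := congrArg (algebraMap R T') hy₀
      simp only [Algebra.smul_def, map_mul, ← IsScalarTower.algebraMap_apply, ← hrt] at hy₁ ⊢
      rw [IsScalarTower.algebraMap_apply A S' T' σ, ← hσ, map_mul, ← IsScalarTower.algebraMap_apply] at hy₁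
      calc z = z * (↑tu * ↑tu⁻¹) * (algebraMap A T' W * ↑hWu.unit⁻¹) := by
            rw [Units.mul_inv, IsUnit.mul_val_inv, mul_one, mul_one]
        _ = algebraMap A T' W * (z * ↑tu) * ↑hWu.unit⁻¹ * ↑tu⁻¹ := by ring
        _ = _ := by rw [htu, hy₁]; ring
  haveI := etale_of_sat d S' hd hd2 T' hS hEt
  have hdisj : Disjoint (M : Set R) (q : Set R) := by
    rw [Set.disjoint_left]
    rintro _ ⟨s, hs, rfl⟩ hsq
    exact hs (hqp ▸ (show s ∈ q.comap (algebraMap A R) from hsq))
  let Q : Ideal T' := q.map (algebraMap R T')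
  haveI : Q.IsPrime := IsLocalization.isPrime_of_isPrime_disjoint _ T' q hq hdisj
  have e : Q.comap (algebraMap R T') = q := IsLocalization.comap_map_of_isPrime_disjoint _ T' hq hdisj
  have := (H18Et.PurityFlat.isEtaleAt_localization_iff (S := A) (T := R) p.primeCompl Q).1
    (H18Et.PurityFlat.isEtaleAt_of_etale (S := S') Q)
  simpa only [e] using this

end Groth.Agent.H18Pur
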