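import Mathlib
import Groth.Agent.H18Pur.GlueEtale
import Groth.Agent.H05EGA4.FiniteNormalization

/-!
# Sections of a finite étale cover of an open subscheme of codimension two
-/

set_option autoImplicit false

universe u

open CategoryTheory AlgebraicGeometry TopologicalSpace Opposite

namespace Groth.Agent.H18Pur

theorem app_finite_etale_of_le {X V : Scheme.{u}} {U : X.Opens} (g : V ⟶ U) [IsFinite g] [Etale g] {D : X.Opens}
    (hD : IsAffineOpen D) (hDU : D ≤ U) :
    ((g ≫ U.ι).app D).hom.Finite ∧ ((g ≫ U.ι).app D).hom.Etale ∧ IsAffineOpen ((g ≫ U.ι) ⁻¹ᵁ D) := by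
  have hr : D ≤ U.ι.opensRange := by simpa using hDU
  have hD' : IsAffineOpen (U.ι ⁻¹ᵁ D) := hD.preimage_of_isOpenImmersion U.ι hr
  haveI : IsIso (U.ι.app D) := U.ι.isIso_app D hr
  rw [Scheme.Hom.comp_app]
  have hfin := g.finite_app _ hD'
  have het : (g.app (U.ι ⁻¹ᵁ D)).hom.Etale := by
    rw [Scheme.Hom.app_eq_appLE]
    exact HasRingHomProperty.appLE @Etale g ‹_› ⟨_, hD'⟩ ⟨_, hD'.preimage g⟩ le_rfl
  refine ⟨?_, ?_, hD'.preimage g⟩
  · exact (RingHom.finite_respectsIso.cancel_left_isIso (U.ι.app D) _).mpr hfin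
  · exact (RingHom.Etale.respectsIso.cancel_left_isIso (U.ι.app D) _).mpr het

theorem app_finite_etale {X V : Scheme.{u}} [IsLocallyNoetherian X]
    (hreg : ∀ x : X, IsRegularLocalRing (X.presheaf.stalk x)) (U : X.Opens)
    (hU : ∀ x : X, x ∉ U → (2 : WithBot ℕ∞) ≤ ringKrullDim (X.presheaf.stalk x))
    (g : V ⟶ U) [IsFinite g] [Etale g] {D : X.Opens} (hD : IsAffineOpen D) [IsDomain Γ(X, D)] :
    ((g ≫ U.ι).app D).hom.Finite ∧ ((g ≫ U.ι).app D).hom.Etale := by
  classical
  let f := g ≫ U.ι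
  let A := Γ(X, D)
  let R := Γ(V, f ⁻¹ᵁ D)
  haveI : IsNoetherianRing A := IsLocallyNoetherian.component_noetherian ⟨D, hD⟩
  letI : Algebra A R := (f.app D).hom.toAlgebra
  have hregA : ∀ (p : Ideal A) [p.IsPrime], IsRegularLocalRing (Localization.AtPrime p) ∧
      (hD.fromSpec ⟨p, inferInstance⟩ ∉ U → 2 ≤ p.height) := fun p hp => by
    let x : X := hD.fromSpec ⟨p, hp⟩
    have hxD : x ∈ D := by
      rw [← hD.opensRange_fromSpec]
      exact ⟨_, rfl⟩
    letI := TopCat.Presheaf.algebra_section_stalk X.presheaf (⟨x, hxD⟩ : D)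
    haveI : IsLocalization.AtPrime (X.presheaf.stalk x) p := hD.isLocalization_stalk' ⟨p, hp⟩ hxD
    haveI := hreg x
    refine ⟨IsRegularLocalRing.of_ringEquiv
      (IsLocalization.algEquiv p.primeCompl (X.presheaf.stalk x) (Localization.AtPrime p)).toRingEquiv, fun hx => ?_⟩
    refine WithBot.coe_le_coe.mp ?_
    rw [← IsLocalization.AtPrime.ringKrullDim_eq_height p (X.presheaf.stalk x)]
    exact hU x hx
  haveI : ∀ (p : Ideal A) [p.IsPrime], IsRegularLocalRing (Localization.AtPrime p) := fun p _ => (hregA p).1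
  haveI : IsIntegrallyClosed A := IsIntegrallyClosed.of_localization_maximal fun p hne hp => by
    haveI := hp
    exact H05EGA4.isIntegrallyClosed_of_isRegularLocalRing (Localization.AtPrime p)
  -- cover `U ⊓ D` by basic opens
  let G : Set A := {a | X.basicOpen a ≤ U}
  obtain ⟨T, hTG, hT⟩ := Submodule.fg_span_iff_fg_span_finset_subset G |>.mp (IsNoetherian.noetherian (Ideal.span G))
  let ι := Fin T.card
  let a : ι → A := fun i => (T.equivFin.symm i).1
  have haU : ∀ i, X.basicOpen (a i) ≤ U := fun i => hTG (T.equivFin.symm i).2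
  have hspan : ∀ p : Ideal A, (∀ i, a i ∈ p) → Ideal.span G ≤ p := fun p hp => by
    rw [show Ideal.span G = Ideal.span (T : Set A) from hT, Ideal.span_le]
    intro b hb
    simpa [a] using hp (T.equivFin ⟨b, hb⟩)
  have hht : ∀ p : Ideal A, p.IsPrime → (∀ i, a i ∈ p) → 2 ≤ p.height := fun p hp hpa => by
    haveI := hp
    refine (hregA p).2 fun hx => ?_
    obtain ⟨b, hbU, hxb⟩ := hD.exists_basicOpen_le (V := U) ⟨_, hx⟩ (by
      have := Set.mem_range_self (f := hD.fromSpec) ⟨p, hp⟩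
      rwa [hD.range_fromSpec] at this)
    have h3 : (⟨p, hp⟩ : PrimeSpectrum A) ∈ PrimeSpectrum.basicOpen b :=
      (hD.fromSpec_preimage_basicOpen b).le hxb
    exact h3 (hspan p hpa (Ideal.subset_span hbU))
  -- the cover of `f ⁻¹ D`
  have hcover : f ⁻¹ᵁ D ≤ ⨆ i, f ⁻¹ᵁ X.basicOpen (a i) := by
    intro v hv
    have hvU : f v ∈ U := (g v).2
    obtain ⟨b, hbU, hxb⟩ := hD.exists_basicOpen_le (V := U) ⟨_, hvU⟩ hv
    by_contra hnot
    simp only [Opens.mem_iSup, not_exists] at hnot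
    let q := hD.primeIdealOf ⟨f v, hv⟩
    have hq : ∀ c : A, f v ∈ X.basicOpen c ↔ c ∉ q.asIdeal := fun c => by
      have := congrArg (fun O : (Spec A).Opens => q ∈ O) (hD.fromSpec_preimage_basicOpen c)
      change (hD.fromSpec q ∈ X.basicOpen c) = _ at this
      rw [show hD.fromSpec q = f v from hD.fromSpec_primeIdealOf ⟨f v, hv⟩] at this
      exact this ▸ Iff.rfl
    exact (hq b).mp hxb (hspan q.asIdeal (fun i => not_not.mp fun h => hnot i ((hq (a i)).mpr h))
      (Ideal.subset_span hbU))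
  have hle : ∀ c : A, f ⁻¹ᵁ X.basicOpen c ≤ f ⁻¹ᵁ D := fun c => f.preimage_mono (X.basicOpen_le c)
  -- restriction to `f ⁻¹ D(c)` is a localization
  haveI : QuasiCompact f := inferInstance
  haveI : QuasiSeparated f := inferInstance
  have hloc : ∀ c : A, @IsLocalization.Away R _ (algebraMap A R c) Γ(V, f ⁻¹ᵁ X.basicOpen c) _
      (V.presheaf.map (homOfLE (hle c)).op).hom.toAlgebra := fun c => by
    let inst : Algebra R Γ(V, f ⁻¹ᵁ X.basicOpen c) := (V.presheaf.map (homOfLE (hle c)).op).hom.toAlgebra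
    let : Algebra R Γ(V, V.basicOpen (f.app D c)) :=
      (V.presheaf.map (homOfLE (V.basicOpen_le _)).op).hom.toAlgebra
    show IsLocalization.Away (f.app D c) _
    dsimp +instances [inst]
    rw! (castMode := .all) [f.preimage_basicOpen c]
    exact isLocalization_basicOpen_of_qcqs (f.isCompact_preimage hD.isCompact)
      (f.isQuasiSeparated_preimage hD.isQuasiSeparated) (f.app D c)
  -- finite étale over `A` on each piece
  have hpiece : ∀ c : A, X.basicOpen c ≤ U →
      Algebra.Etale A (Localization.Away (algebraMap A R c)) ∧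
      ∃ S : Finset R, ∀ z : R, ∃ N : ℕ, c ^ N • z ∈ Submodule.span A (S : Set R) := by
    intro c hc
    obtain ⟨hfin, het, -⟩ := app_finite_etale_of_le g (hD.basicOpen c) hc
    letI : Algebra A Γ(X, X.basicOpen c) := (X.presheaf.map (homOfLE (X.basicOpen_le c)).op).hom.toAlgebra
    haveI : IsLocalization.Away c Γ(X, X.basicOpen c) := hD.isLocalization_basicOpen c
    letI : Algebra R Γ(V, f ⁻¹ᵁ X.basicOpen c) := (V.presheaf.map (homOfLE (hle c)).op).hom.toAlgebra
    haveI := hloc c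
    letI : Algebra Γ(X, X.basicOpen c) Γ(V, f ⁻¹ᵁ X.basicOpen c) := (f.app (X.basicOpen c)).hom.toAlgebra
    letI : Algebra A Γ(V, f ⁻¹ᵁ X.basicOpen c) :=
      ((V.presheaf.map (homOfLE (hle c)).op).hom.comp (algebraMap A R)).toAlgebra
    haveI : IsScalarTower A R Γ(V, f ⁻¹ᵁ X.basicOpen c) := IsScalarTower.of_algebraMap_eq fun _ => rfl
    haveI : IsScalarTower A Γ(X, X.basicOpen c) Γ(V, f ⁻¹ᵁ X.basicOpen c) :=
      IsScalarTower.of_algebraMap_eq fun y =>
        (congr($(f.naturality (homOfLE (X.basicOpen_le c)).op) y)).symm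
    haveI : Module.Finite Γ(X, X.basicOpen c) Γ(V, f ⁻¹ᵁ X.basicOpen c) := hfin
    haveI : Algebra.Etale Γ(X, X.basicOpen c) Γ(V, f ⁻¹ᵁ X.basicOpen c) := RingHom.etale_algebraMap.mp het
    haveI : Algebra.Etale A Γ(X, X.basicOpen c) := Algebra.Etale.of_isLocalizationAway c
    haveI : Algebra.Etale A Γ(V, f ⁻¹ᵁ X.basicOpen c) := Algebra.Etale.comp A Γ(X, X.basicOpen c) _
    refine ⟨Algebra.Etale.of_equiv ((IsLocalization.algEquiv (Submonoid.powers (algebraMap A R c))
      Γ(V, f ⁻¹ᵁ X.basicOpen c) _).restrictScalars A), ?_⟩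
    obtain ⟨gens, hgens⟩ := Module.Finite.fg_top (R := Γ(X, X.basicOpen c)) (M := Γ(V, f ⁻¹ᵁ X.basicOpen c))
    choose num hnum using fun w : Γ(V, f ⁻¹ᵁ X.basicOpen c) =>
      IsLocalization.surj (Submonoid.powers (algebraMap A R c)) w
    refine ⟨gens.image fun w => (num w).1, ?_⟩
    set W₀ := Submodule.span A ((gens.image fun w => (num w).1 : Finset R) : Set R)
    let ρ := algebraMap R Γ(V, f ⁻¹ᵁ X.basicOpen c)
    have key : ∀ w ∈ Submodule.span Γ(X, X.basicOpen c) (gens : Set Γ(V, f ⁻¹ᵁ X.basicOpen c)),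
        ∃ (N : ℕ) (y : R), y ∈ W₀ ∧ c ^ N • w = ρ y := by
      intro w hw
      induction hw using Submodule.span_induction with
      | mem w hw =>
        obtain ⟨n, hn⟩ := (Submonoid.mem_powers_iff _ _).mp (num w).2.2
        refine ⟨n, (num w).1, Submodule.subset_span (Finset.mem_image_of_mem _ hw), ?_⟩
        rw [← hnum w, ← hn, Algebra.smul_def, IsScalarTower.algebraMap_apply A R, map_pow (algebraMap A R), mul_comm]
      | zero => exact ⟨0, 0, W₀.zero_mem, by rw [smul_zero, map_zero]⟩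
      | add u v _ _ hu hv =>
        obtain ⟨N, y, hy, hyu⟩ := hu
        obtain ⟨M, z, hz, hzv⟩ := hv
        refine ⟨N + M, c ^ M • y + c ^ N • z, W₀.add_mem (W₀.smul_mem _ hy) (W₀.smul_mem _ hz), ?_⟩
        rw [smul_add, map_add, Algebra.smul_def (c ^ M) y, map_mul, Algebra.smul_def (c ^ N) z, map_mul,
          ← hyu, ← hzv]
        show _ = algebraMap R _ (algebraMap A R _) * _ + algebraMap R _ (algebraMap A R _) * _
        rw [← IsScalarTower.algebraMap_apply, ← IsScalarTower.algebraMap_apply, ← Algebra.smul_def,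
          ← Algebra.smul_def, smul_smul, smul_smul, ← pow_add, ← pow_add, add_comm M N]
      | smul r u _ hu =>
        obtain ⟨N, y, hy, hyu⟩ := hu
        obtain ⟨⟨r₀, _, m, rfl⟩, hr⟩ := IsLocalization.surj (Submonoid.powers c) r
        refine ⟨N + m, r₀ • y, W₀.smul_mem _ hy, ?_⟩
        rw [Algebra.smul_def r₀ y, map_mul, ← hyu]
        show _ = algebraMap R _ (algebraMap A R _) * _
        rw [← IsScalarTower.algebraMap_apply, IsScalarTower.algebraMap_apply A Γ(X, X.basicOpen c) _ r₀, ← hr]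
        simp only [Algebra.smul_def, map_mul, map_pow, ← IsScalarTower.algebraMap_apply]
        ring
    intro z
    obtain ⟨N, y, hy, hyz⟩ := key (ρ z) (hgens ▸ Submodule.mem_top)
    obtain ⟨⟨_, k, rfl⟩, hk⟩ := (IsLocalization.eq_iff_exists (Submonoid.powers (algebraMap A R c))
      Γ(V, f ⁻¹ᵁ X.basicOpen c) (x := c ^ N • z) (y := y)).mp (by
        rw [Algebra.smul_def, map_mul, ← IsScalarTower.algebraMap_apply, ← Algebra.smul_def]
        exact hyz)
    refine ⟨k + N, ?_⟩
    rw [pow_add, ← smul_smul, Algebra.smul_def (c ^ k), map_pow, show algebraMap A R c ^ k * c ^ N • z = algebraMap A R c ^ k * y from hk,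
      ← map_pow, ← Algebra.smul_def]
    exact W₀.smul_mem _ hy
  -- sheaf properties
  have hres : ∀ (c : A) (x : R), V.presheaf.map (homOfLE (hle c)).op x =
      @algebraMap R Γ(V, f ⁻¹ᵁ X.basicOpen c) _ _ (V.presheaf.map (homOfLE (hle c)).op).hom.toAlgebra x :=
    fun _ _ => rfl
  have h0 : ∀ z : R, (∀ i, ∃ N : ℕ, a i ^ N • z = 0) → z = 0 := fun z hz => by
    refine V.sheaf.eq_of_locally_eq' (fun i => f ⁻¹ᵁ X.basicOpen (a i)) _ (fun i => homOfLE (hle _)) hcover z 0 fun i => ?_
    rw [map_zero]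
    letI : Algebra R Γ(V, f ⁻¹ᵁ X.basicOpen (a i)) := (V.presheaf.map (homOfLE (hle (a i))).op).hom.toAlgebra
    haveI := hloc (a i)
    obtain ⟨N, hN⟩ := hz i
    show algebraMap R Γ(V, f ⁻¹ᵁ X.basicOpen (a i)) z = 0
    refine (IsLocalization.map_eq_zero_iff (Submonoid.powers (algebraMap A R (a i))) _ z).mpr ⟨⟨_, N, rfl⟩, ?_⟩
    rw [← hN, Algebra.smul_def, map_pow]
  have hglue : ∀ s : A, s ≠ 0 → ∀ x : R, (∀ i, ∃ (N : ℕ) (y : R), a i ^ N • x = s • y) → ∃ y, x = s • y := by
    intro s hs x hx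
    choose N y hy using hx
    -- multiplication by `s` is injective on each piece
    have hinj : ∀ c : A, X.basicOpen c ≤ U → ∀ u v : Γ(V, f ⁻¹ᵁ X.basicOpen c),
        V.presheaf.map (homOfLE (hle c)).op (algebraMap A R s) * u =
          V.presheaf.map (homOfLE (hle c)).op (algebraMap A R s) * v → u = v := by
      intro c hc u v huv
      letI : Algebra R Γ(V, f ⁻¹ᵁ X.basicOpen c) := (V.presheaf.map (homOfLE (hle c)).op).hom.toAlgebra
      haveI := hloc c
      let e : Localization.Away (algebraMap A R c) ≃ₐ[R] Γ(V, f ⁻¹ᵁ X.basicOpen c) :=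
        IsLocalization.algEquiv (Submonoid.powers (algebraMap A R c)) _ _
      haveI := (hpiece c hc).1
      have hflat : IsSMulRegular (Localization.Away (algebraMap A R c))
          (algebraMap A (Localization.Away (algebraMap A R c)) s) :=
        IsSMulRegular.of_flat (show IsSMulRegular A s from fun u v huv => mul_left_cancel₀ hs huv)
      apply e.symm.injective
      refine hflat ?_
      show algebraMap A _ s * e.symm u = algebraMap A _ s * e.symm v
      rw [IsScalarTower.algebraMap_apply A R (Localization.Away (algebraMap A R c)),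
        ← e.symm.commutes, ← map_mul, ← map_mul]
      exact congrArg e.symm huv
    let σ := fun c : A => V.presheaf.map (homOfLE (hle c)).op (algebraMap A R s)
    have hz : ∀ i, ∃ z : Γ(V, f ⁻¹ᵁ X.basicOpen (a i)),
        σ (a i) * z = V.presheaf.map (homOfLE (hle (a i))).op x := fun i => by
      letI : Algebra R Γ(V, f ⁻¹ᵁ X.basicOpen (a i)) := (V.presheaf.map (homOfLE (hle (a i))).op).hom.toAlgebra
      haveI := hloc (a i)
      refine ⟨IsLocalization.mk' Γ(V, f ⁻¹ᵁ X.basicOpen (a i)) (y i)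
        (⟨_, N i, rfl⟩ : Submonoid.powers (algebraMap A R (a i))), ?_⟩
      show algebraMap R _ (algebraMap A R s) * _ = algebraMap R _ x
      rw [IsLocalization.mul_mk'_eq_mk'_of_mul, ← Algebra.smul_def, ← hy i, IsLocalization.mk'_eq_iff_eq_mul,
        ← map_mul, mul_comm x, Algebra.smul_def, map_pow]
    choose z hz using hz
    have hcompat : TopCat.Presheaf.IsCompatible V.sheaf.1 (fun i => f ⁻¹ᵁ X.basicOpen (a i)) z := fun i j => by
      have he : f ⁻¹ᵁ X.basicOpen (a i) ⊓ f ⁻¹ᵁ X.basicOpen (a j) = f ⁻¹ᵁ X.basicOpen (a i * a j) := by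
        rw [X.basicOpen_mul, Scheme.Hom.preimage_inf]
      have hli : f ⁻¹ᵁ X.basicOpen (a i * a j) ≤ f ⁻¹ᵁ X.basicOpen (a i) := he.symm.le.trans inf_le_left
      have hlj : f ⁻¹ᵁ X.basicOpen (a i * a j) ≤ f ⁻¹ᵁ X.basicOpen (a j) := he.symm.le.trans inf_le_right
      have key : V.presheaf.map (homOfLE hli).op (z i) = V.presheaf.map (homOfLE hlj).op (z j) := by
        refine hinj _ (by rw [X.basicOpen_mul]; exact inf_le_left.trans (haU i)) _ _ ?_
        have h1 := congrArg (V.presheaf.map (homOfLE hli).op) (hz i)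
        have h2 := congrArg (V.presheaf.map (homOfLE hlj).op) (hz j)
        rw [map_mul, ← ConcreteCategory.comp_apply, ← ConcreteCategory.comp_apply, ← V.presheaf.map_comp] at h1 h2
        exact h1.trans h2.symm
      have h3 := congrArg (V.presheaf.map (homOfLE he.le).op) key
      rw [← ConcreteCategory.comp_apply, ← ConcreteCategory.comp_apply, ← V.presheaf.map_comp, ← V.presheaf.map_comp] at h3
      exact h3
    obtain ⟨y₀, hy₀, -⟩ := V.sheaf.existsUnique_gluing' (fun i => f ⁻¹ᵁ X.basicOpen (a i)) (f ⁻¹ᵁ D)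
      (fun i => homOfLE (hle _)) hcover z hcompat
    let w : R := y₀
    refine ⟨w, ?_⟩
    refine V.sheaf.eq_of_locally_eq' (fun i => f ⁻¹ᵁ X.basicOpen (a i)) _ (fun i => homOfLE (hle _)) hcover x _ fun i => ?_
    show V.presheaf.map (homOfLE (hle _)).op x = V.presheaf.map (homOfLE (hle _)).op (s • w)
    rw [Algebra.smul_def, map_mul, show V.presheaf.map (homOfLE (hle _)).op w = z i from hy₀ i]
    exact (hz i).symm
  obtain ⟨h1, h2⟩ := etale_of_codimTwo a hht (fun i => (hpiece (a i) (haU i)).2) (fun i => (hpiece (a i) (haU i)).1) h0 hglue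
  exact ⟨h1, RingHom.etale_algebraMap.mpr h2⟩

end Groth.Agent.H18Pur
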