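import Mathlib
import Groth.Agent.H18Pur.SectionsEtale
import Groth.Agent.H17.TwoGlue

/-!
# Extending finite étale covers across codimension two
-/

set_option autoImplicit false
set_option backward.isDefEq.respectTransparency false

universe u

open CategoryTheory CategoryTheory.Limits AlgebraicGeometry TopologicalSpace

namespace Groth.Agent.H18Pur

theorem exists_extension {X V : Scheme.{u}} [IsLocallyNoetherian X]
    (hreg : ∀ x : X, IsRegularLocalRing (X.presheaf.stalk x)) (U : X.Opens)
    (hU : ∀ x : X, x ∉ U → (2 : WithBot ℕ∞) ≤ ringKrullDim (X.presheaf.stalk x))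
    (g : V ⟶ U) [IsFinite g] [Etale g] :
    ∃ (W : Scheme.{u}) (w : W ⟶ X), IsFinite w ∧ Etale w ∧
      ∃ e : pullback w U.ι ≅ V, e.hom ≫ g = pullback.snd w U.ι := by
  let f := g ≫ U.ι
  haveI : QuasiCompact f := inferInstance
  haveI : QuasiSeparated f := inferInstance
  let w := f.fromNormalization
  have happ : ∀ D : X.Opens, IsAffineOpen D → IsDomain Γ(X, D) →
      (w.app D).hom.Finite ∧ (w.app D).hom.Etale := by
    intro D hD hdom
    haveI := hdom
    obtain ⟨hfin, het⟩ := app_finite_etale hreg U hU g hD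
    letI : Algebra Γ(X, D) Γ(V, f ⁻¹ᵁ D) := (f.app D).hom.toAlgebra
    haveI : Module.Finite Γ(X, D) Γ(V, f ⁻¹ᵁ D) := hfin
    haveI : Algebra.Etale Γ(X, D) Γ(V, f ⁻¹ᵁ D) := RingHom.etale_algebraMap.mp het
    have htop : integralClosure Γ(X, D) Γ(V, f ⁻¹ᵁ D) = ⊤ := integralClosure_eq_top_iff.mpr inferInstance
    let e : Γ(V, f ⁻¹ᵁ D) ≃ₐ[Γ(X, D)] integralClosure Γ(X, D) Γ(V, f ⁻¹ᵁ D) :=
      Subalgebra.topEquiv.symm.trans (Subalgebra.equivOfEq _ _ htop.symm)
    haveI : Module.Finite Γ(X, D) (integralClosure Γ(X, D) Γ(V, f ⁻¹ᵁ D)) := Module.Finite.equiv e.toLinearEquiv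
    haveI : Algebra.Etale Γ(X, D) (integralClosure Γ(X, D) Γ(V, f ⁻¹ᵁ D)) := Algebra.Etale.of_equiv e
    show (f.fromNormalization.app D).hom.Finite ∧ (f.fromNormalization.app D).hom.Etale
    rw [f.fromNormalization_app hD]
    exact ⟨(RingHom.finite_respectsIso.cancel_right_isIso _ (f.normalizationObjIso hD).inv).mpr
        (RingHom.finite_algebraMap.mpr inferInstance),
      (RingHom.Etale.respectsIso.cancel_right_isIso _ (f.normalizationObjIso hD).inv).mpr
        (RingHom.etale_algebraMap.mpr inferInstance)⟩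
  have hcov : ∀ x : X, ∃ D : X.Opens, x ∈ D ∧ IsAffineOpen D ∧ IsDomain Γ(X, D) := fun x => by
    haveI := hreg x
    haveI : IsDomain (X.presheaf.stalk x) := H4Depth.isDomain_of_isRegularLocalRing _
    obtain ⟨D, hxD, hD, hint⟩ := H17.exists_isIntegral_nhd x (Or.inl inferInstance)
    haveI := hint
    haveI : Nonempty (⊤ : (D : Scheme.{u}).Opens) := ⟨⟨⟨x, hxD⟩, trivial⟩⟩
    exact ⟨D, hxD, hD, D.topIso.symm.commRingCatIsoToRingEquiv.toMulEquiv.isDomain⟩
  choose D hxD hD hdom using hcov
  have hsup : iSup D = ⊤ := top_le_iff.mp fun x _ => Opens.mem_iSup.mpr ⟨x, hxD x⟩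
  have hw1 : IsFinite w := by
    rw [IsZariskiLocalAtTarget.iff_of_iSup_eq_top (P := @IsFinite) D hsup]
    intro x
    haveI : IsAffine (D x : Scheme.{u}) := hD x
    rw [HasAffineProperty.iff_of_isAffine (P := @IsFinite)]
    refine ⟨(hD x).preimage w, ?_⟩
    rw [morphismRestrict_appTop, CommRingCat.hom_comp, RingHom.finite_respectsIso.cancel_right_isIso]
    have key : ∀ E : X.Opens, E = D x → (w.app E).hom.Finite := fun E h => by
      subst h
      exact (happ _ (hD x) (hdom x)).1
    exact key _ (Scheme.Opens.ι_image_top _)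
  have hw2 : Etale w := by
    rw [IsZariskiLocalAtTarget.iff_of_iSup_eq_top (P := @Etale) D hsup]
    intro x
    haveI : IsAffine (D x : Scheme.{u}) := hD x
    haveI : IsAffine (w ⁻¹ᵁ D x : Scheme.{u}) := (hD x).preimage w
    rw [HasRingHomProperty.iff_of_isAffine (P := @Etale)]
    rw [morphismRestrict_appTop, CommRingCat.hom_comp, RingHom.Etale.respectsIso.cancel_right_isIso]
    have key : ∀ E : X.Opens, E = D x → (w.app E).hom.Etale := fun E h => by
      subst h
      exact (happ _ (hD x) (hdom x)).2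
    exact key _ (Scheme.Opens.ι_image_top _)
  refine ⟨f.normalization, w, hw1, hw2, ?_⟩
  -- over `U` the normalization is the cover itself
  have hfst : IsIso (pullback.fst f U.ι) := by
    refine ⟨pullback.lift (𝟙 V) g (Category.id_comp _), ?_, pullback.lift_fst _ _ _⟩
    apply pullback.hom_ext
    · rw [Category.assoc, pullback.lift_fst, Category.comp_id, Category.id_comp]
    · rw [Category.assoc, pullback.lift_snd, Category.id_comp, ← cancel_mono U.ι, Category.assoc,
        ← pullback.condition]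
  have hsnd : pullback.fst f U.ι ≫ g = pullback.snd f U.ι := by
    rw [← cancel_mono U.ι, Category.assoc, ← pullback.condition]
  haveI : IsIntegralHom (pullback.snd f U.ι) := by
    rw [← hsnd]
    haveI := hfst
    infer_instance
  haveI : Smooth U.ι := inferInstance
  refine ⟨(asIso ((pullback.snd f U.ι).toNormalization ≫ f.normalizationPullback U.ι)).symm ≪≫
    (haveI := hfst; asIso (pullback.fst f U.ι)), ?_⟩
  simp only [Iso.trans_hom, Iso.symm_hom, asIso_hom, asIso_inv, Category.assoc, hsnd]
  rw [IsIso.inv_comp_eq, Category.assoc, Scheme.Hom.normalizationPullback_snd,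
    Scheme.Hom.toNormalization_fromNormalization]

end Groth.Agent.H18Pur
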