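import Mathlib
import Groth.Agent.H18Pur.Extend
import Groth.Agent.H18Et.FEtDepth
import Groth.Prelude.Def_FEt

/-!
# Purity: restriction of finite étale covers is an equivalence
-/

set_option autoImplicit false
set_option backward.isDefEq.respectTransparency false

universe u

open CategoryTheory CategoryTheory.Limits AlgebraicGeometry TopologicalSpace

namespace Groth.Agent.H18Pur

theorem dense_of_dim {X : Scheme.{u}} (U : X.Opens)
    (hU : ∀ x : X, x ∉ U → (2 : WithBot ℕ∞) ≤ ringKrullDim (X.presheaf.stalk x)) : Dense (U : Set X) := by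
  intro x
  obtain ⟨η, hη⟩ := QuasiSober.sober (isIrreducible_irreducibleComponent (x := x)) isClosed_irreducibleComponent
  have hηmax : IsMax η := fun y hy => by
    have hspec : y ⤳ η := Scheme.le_iff_specializes.mp hy
    have hle : irreducibleComponent x ⊆ closure ({y} : Set X) := by
      rw [← hη.def]
      exact closure_minimal (Set.singleton_subset_iff.mpr hspec.mem_closure) isClosed_closure
    have heq : closure ({y} : Set X) = irreducibleComponent x :=
      (irreducibleComponent_property x).2.2 _ isIrreducible_singleton.closure.2 hle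
    have hy' : η ⤳ y := by
      rw [specializes_iff_mem_closure, hη.def, ← heq]
      exact subset_closure rfl
    exact Scheme.le_iff_specializes.mpr hy'
  have hηU : η ∈ U := by
    by_contra hn
    have := hU η hn
    rw [ringKrullDim_stalk_eq_coheight, Order.coheight_eq_zero.mpr hηmax] at this
    exact absurd (WithBot.coe_le_coe.mp (this : ((2 : ℕ∞) : WithBot ℕ∞) ≤ ((0 : ℕ∞) : WithBot ℕ∞))) (by decide)
  have hx : x ∈ closure ({η} : Set X) := by
    rw [hη.def]
    exact mem_irreducibleComponent
  exact closure_mono (Set.singleton_subset_iff.mpr hηU) hx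

theorem restrict_essSurj {X : Scheme.{u}} [IsLocallyNoetherian X]
    (hreg : ∀ x : X, IsRegularLocalRing (X.presheaf.stalk x)) (U : X.Opens)
    (hU : ∀ x : X, x ∉ U → (2 : WithBot ℕ∞) ≤ ringKrullDim (X.presheaf.stalk x)) :
    (FEt.restrict U.ι).EssSurj where
  mem_essImage Y := by
    haveI : IsFinite Y.hom := Y.prop.1
    haveI : Etale Y.hom := Y.prop.2
    obtain ⟨W, w, hw1, hw2, e, he⟩ := exists_extension hreg U hU Y.hom
    exact ⟨MorphismProperty.Over.mk ⊤ w ⟨hw1, hw2⟩, ⟨MorphismProperty.Over.isoMk e he⟩⟩

theorem restrict_isEquivalence {X : Scheme.{u}} [IsLocallyNoetherian X]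
    (hreg : ∀ x : X, IsRegularLocalRing (X.presheaf.stalk x)) (U : X.Opens)
    (hU : ∀ x : X, x ∉ U → (2 : WithBot ℕ∞) ≤ ringKrullDim (X.presheaf.stalk x)) :
    (FEt.restrict U.ι).IsEquivalence := by
  have hdepth : ∀ x : X, x ∉ U → (2 : ℕ∞) ≤ LocCoh.depth (X.presheaf.stalk x) (X.presheaf.stalk x) := fun x hx => by
    haveI := hreg x
    have h := hU x hx
    rw [← H4Depth.depth_self_eq_ringKrullDim_of_regular] at h
    exact WithBot.coe_le_coe.mp h
  obtain ⟨hfull, hfaith⟩ := H18Et.FEtDepth.full_faithful U
    (H18Et.FEtDepth.meetsClopens_of_dense U (dense_of_dim U hU)) hdepth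
  exact { full := hfull, faithful := hfaith, essSurj := restrict_essSurj hreg U hU }

end Groth.Agent.H18Pur
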