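import Mathlib
import Groth.Prelude.Def_FEt
import Groth.Agent.S0291
import Groth.Agent.H05EGA4.SerreCond

/-!
# A cover of the punctured spectrum with finite étale sections extends
-/

set_option autoImplicit false
set_option backward.isDefEq.respectTransparency false

universe u

open CategoryTheory CategoryTheory.Limits AlgebraicGeometry TopologicalSpace

namespace Groth.Agent.H18Pur

/-- Depth two: the functions on the punctured spectrum are those of the ring. -/
theorem isIso_sections_punctured (A : Type u) [CommRing A] [IsNoetherianRing A] [IsLocalRing A]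
    (hA : (2 : ℕ∞) ≤ LocCoh.depth A A) :
    IsIso ((Scheme.ΓSpecIso (CommRingCat.of A)).inv ≫ (FEt.puncturedSpec A).ι.appTop) := by
  let U := FEt.puncturedSpec A
  have hd : ∀ (m : Ideal A) (_ : m.IsMaximal),
      (2 : ℕ∞) ≤ LocCoh.depth (Localization.AtPrime m) (Localization.AtPrime m) := by
    intro m hm
    obtain rfl := IsLocalRing.eq_maximalIdeal hm
    let e : A ≃+* Localization.AtPrime (IsLocalRing.maximalIdeal A) :=
      (IsLocalization.atUnits A (IsLocalRing.maximalIdeal A).primeCompl (fun a ha => by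
        exact not_not.1 fun h => ha ((IsLocalRing.mem_maximalIdeal a).2 h))).toRingEquiv
    rw [← Groth.Agent.H05EGA4.depth_eq_of_ringEquiv e]
    exact hA
  have h0 := Groth.Agent.S0291.result A A hd
  have hid : Spec.map (CommRingCat.ofHom (algebraMap A A)) = 𝟙 (Spec (CommRingCat.of A)) := Spec.map_id _
  have key : ∀ W : (Spec (CommRingCat.of A)).Opens,
      W = Spec.map (CommRingCat.ofHom (algebraMap A A)) ⁻¹ᵁ U →
      IsIso ((Spec (CommRingCat.of A)).presheaf.map (homOfLE (le_top : W ≤ ⊤)).op) := by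
    rintro W rfl
    exact h0
  have h1 := key (U.ι ''ᵁ ⊤) (by rw [hid, Scheme.Hom.image_top_eq_opensRange, Scheme.Opens.opensRange_ι]; rfl)
  rw [Scheme.Opens.ι_appTop]
  exact IsIso.comp_isIso

/-- A finite étale cover of the punctured spectrum with finite étale ring of sections extends. -/
theorem exists_extension_of_etale_sections (A : Type u) [CommRing A] [IsNoetherianRing A] [IsLocalRing A]
    (hA : (2 : ℕ∞) ≤ LocCoh.depth A A) (V : FEt.Cat (FEt.puncturedSpec A : Scheme.{u}))
    (hfin : ((Scheme.ΓSpecIso (CommRingCat.of A)).inv ≫ (V.hom ≫ (FEt.puncturedSpec A).ι).appTop).hom.Finite)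
    (het : ((Scheme.ΓSpecIso (CommRingCat.of A)).inv ≫ (V.hom ≫ (FEt.puncturedSpec A).ι).appTop).hom.Etale) :
    ∃ Y : FEt.Cat (Spec (CommRingCat.of A)),
      Nonempty ((FEt.restrict (FEt.puncturedSpec A).ι).obj Y ≅ V) := by
  let U := FEt.puncturedSpec A
  let φ := (Scheme.ΓSpecIso (CommRingCat.of A)).inv ≫ (V.hom ≫ U.ι).appTop
  let ρ := (Scheme.ΓSpecIso (CommRingCat.of A)).inv ≫ U.ι.appTop
  haveI : IsIso ρ := isIso_sections_punctured A hA
  haveI : IsFinite V.hom := V.prop.1
  haveI : IsFinite (Spec.map φ) := (IsFinite.SpecMap_iff φ).2 hfin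
  haveI : Etale (Spec.map φ) := (HasRingHomProperty.Spec_iff (P := @Etale)).2 het
  refine ⟨MorphismProperty.Over.mk ⊤ (Spec.map φ) ⟨‹_›, ‹_›⟩, ?_⟩
  haveI : IsNoetherianRing (CommRingCat.of A) := ‹IsNoetherianRing A›
  haveI : CompactSpace (U : Scheme.{u}) := isCompact_iff_compactSpace.mp
    (TopologicalSpace.NoetherianSpace.isCompact (U : Set (Spec (CommRingCat.of A))))
  haveI : (U : Scheme.{u}).IsQuasiAffine := Scheme.IsQuasiAffine.of_isImmersion U.ι
  have hU : (U : Scheme.{u}).toSpecΓ ≫ Spec.map ρ = U.ι := by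
    rw [Spec.map_comp, ← Scheme.toSpecΓ_naturality_assoc, toSpecΓ_SpecMap_ΓSpecIso_inv, Category.comp_id]
  have hφ : Spec.map V.hom.appTop ≫ Spec.map ρ = Spec.map φ := by
    rw [← Spec.map_comp]
    congr 1
  let g : V.left ⟶ (U : Scheme.{u}) := V.hom
  haveI : IsFinite g := V.prop.1
  have hpb : IsPullback V.hom V.left.toSpecΓ U.ι (Spec.map φ) :=
    (Scheme.isPullback_toSpecΓ_toSpecΓ g).of_iso (Iso.refl _) (Iso.refl _) (Iso.refl _)
      (asIso (Spec.map ρ)) (by simp [g]; try rfl) (by simp) (by simpa using hU) (by simpa using hφ)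
  exact ⟨MorphismProperty.Over.isoMk hpb.flip.isoPullback.symm (hpb.flip.isoPullback_inv_snd)⟩

end Groth.Agent.H18Pur
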