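import Mathlib
import Groth.Agent.H4Depth.DepthLemmas
import Groth.Agent.H4Depth.Connected

/-!
# Depth two and saturation
-/

set_option autoImplicit false
set_option backward.isDefEq.respectTransparency false

universe u

open LocCoh IsLocalRing

namespace Groth.Agent.H18Pur.Saturated

variable {S : Type u} [CommRing S] [IsLocalRing S] [IsNoetherianRing S]

/-- A regular element saturated for the maximal ideal gives depth two. -/
theorem two_le_depth_of_sat {x : S} (hx : x ∈ maximalIdeal S) (hreg : IsSMulRegular S x)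
    (hsat : ∀ z : S, (∀ a ∈ maximalIdeal S, x ∣ a * z) → x ∣ z) : 2 ≤ depth S S := by
  have hne' : maximalIdeal S • (⊤ : Submodule S (QuotSMulTop x S)) ≠ ⊤ :=
    H4Depth.smul_top_ne_top_of_one_le hx (by simpa using (maximalIdeal.isMaximal S).ne_top)
  rw [depth, ← H4Depth.idealDepth_quotSMulTop_add_one hx hreg, ← one_add_one_eq_two]
  gcongr
  by_contra hlt
  obtain ⟨p, hp, hle⟩ := (H4Depth.idealDepth_eq_zero_iff_exists_associatedPrime hne').mp
    (ENat.lt_one_iff_eq_zero.mp (not_le.mp hlt))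
  obtain ⟨hp', c, hc⟩ := isAssociatedPrime_iff.mp hp
  obtain ⟨y, rfl⟩ := Submodule.Quotient.mk_surjective _ c
  have hy : ¬ x ∣ y := by
    rintro ⟨w, rfl⟩
    refine hp'.ne_top ((Ideal.eq_top_iff_one _).mpr ?_)
    rw [hc, Submodule.mem_colon_singleton, one_smul, Submodule.mem_bot,
      Submodule.Quotient.mk_eq_zero]
    exact Submodule.smul_mem_pointwise_smul w x ⊤ Submodule.mem_top
  refine hy (hsat y fun a ha => ?_)
  have := hle ha
  rw [hc, Submodule.mem_colon_singleton, Submodule.mem_bot, ← Submodule.Quotient.mk_smul,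
    Submodule.Quotient.mk_eq_zero, Submodule.mem_smul_pointwise_iff_exists] at this
  obtain ⟨w, -, hw⟩ := this
  exact ⟨w, hw.symm⟩

/-- Depth two: any regular element is saturated for the maximal ideal. -/
theorem sat_of_two_le_depth (hd : 2 ≤ depth S S) {x : S} (hx : x ∈ maximalIdeal S) (hreg : IsSMulRegular S x)
    (z : S) (hz : ∀ a ∈ maximalIdeal S, x ∣ a * z) : x ∣ z := by
  by_contra hxz
  have hne' : maximalIdeal S • (⊤ : Submodule S (QuotSMulTop x S)) ≠ ⊤ :=
    H4Depth.smul_top_ne_top_of_one_le hx (by simpa using (maximalIdeal.isMaximal S).ne_top)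
  rw [depth, ← H4Depth.idealDepth_quotSMulTop_add_one hx hreg, ← one_add_one_eq_two] at hd
  have h1 : (1 : ℕ∞) ≤ idealDepth (maximalIdeal S) (QuotSMulTop x S) :=
    (ENat.add_le_add_iff_right (by simp)).1 hd
  let zb : QuotSMulTop x S := Submodule.Quotient.mk z
  have hzb : zb ≠ 0 := by
    intro h
    rw [Submodule.Quotient.mk_eq_zero, Submodule.mem_smul_pointwise_iff_exists] at h
    obtain ⟨w, -, hw⟩ := h
    exact hxz ⟨w, hw.symm⟩
  obtain ⟨p, hp, hle⟩ := exists_le_isAssociatedPrime_of_isNoetherianRing S zb hzb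
  have hmle : maximalIdeal S ≤ p := fun a ha => hle (by
    rw [Submodule.mem_colon_singleton, Submodule.mem_bot, ← Submodule.Quotient.mk_smul, Submodule.Quotient.mk_eq_zero,
      Submodule.mem_smul_pointwise_iff_exists]
    obtain ⟨w, hw⟩ := hz a ha
    exact ⟨w, trivial, hw.symm⟩)
  rw [(H4Depth.idealDepth_eq_zero_iff_exists_associatedPrime hne').2 ⟨p, hp, hmle⟩] at h1
  exact absurd h1 (by decide)

section Ring

variable {A : Type u} [CommRing A] [IsNoetherianRing A] (I : Ideal A)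

/-- An ideal all of whose primes have depth two contains a regular element. -/
theorem exists_regular_of_depth (hI : ∀ (p : Ideal A) [p.IsPrime], I ≤ p →
    2 ≤ depth (Localization.AtPrime p) (Localization.AtPrime p)) : ∃ x ∈ I, IsSMulRegular A x := by
  by_contra hno
  simp only [not_exists, not_and] at hno
  have hsub : (I : Set A) ⊆ ⋃ p ∈ associatedPrimes A A, (p : Set A) := by
    intro x hx
    rw [biUnion_associatedPrimes_eq_compl_regular]
    exact hno x hx
  have hfin := associatedPrimes.finite A A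
  have hsub' : (I : Set A) ⊆ ⋃ p ∈ (hfin.toFinset : Set (Ideal A)), (p : Set A) := by
    simpa using hsub
  obtain ⟨p, hp, hle⟩ := (Ideal.subset_union_prime (f := id) ⊥ ⊥ (fun q hq _ _ => by
    exact (hfin.mem_toFinset.1 hq).isPrime)).1 hsub'
  have hp' : p ∈ associatedPrimes A A := hfin.mem_toFinset.1 hp
  haveI := hp'.isPrime
  obtain ⟨x, hx, hxreg, -⟩ := H4Depth.exists_regular_two (hI p hle)
  obtain ⟨hpp, w, hw⟩ := isAssociatedPrime_iff.1 hp'
  obtain ⟨⟨a, s⟩, rfl⟩ := IsLocalization.mk'_surjective p.primeCompl x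
  have ha : a ∈ p := (IsLocalization.AtPrime.mk'_mem_maximal_iff _ p a s).1 hx
  rw [hw, Submodule.mem_colon_singleton, Submodule.mem_bot, smul_eq_mul] at ha
  have h0 : algebraMap A (Localization.AtPrime p) w = 0 := hxreg (by
    show IsLocalization.mk' (Localization.AtPrime p) a s * _ = IsLocalization.mk' (Localization.AtPrime p) a s * 0
    rw [mul_zero, mul_comm, IsLocalization.mul_mk'_eq_mk'_of_mul, mul_comm w a, ha, IsLocalization.mk'_zero])
  obtain ⟨m, hm⟩ := (IsLocalization.map_eq_zero_iff p.primeCompl _ w).1 h0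
  refine m.2 ?_
  show (m : A) ∈ p
  refine (SetLike.ext_iff.1 hw (m : A)).2 ?_
  rw [Submodule.mem_colon_singleton, Submodule.mem_bot, smul_eq_mul]
  exact hm

/-- An ideal all of whose primes have depth two saturates regular elements. -/
theorem sat_of_depth (hI : ∀ (p : Ideal A) [p.IsPrime], I ≤ p →
    2 ≤ depth (Localization.AtPrime p) (Localization.AtPrime p)) {x : A} (hxI : x ∈ I) (hx : IsSMulRegular A x)
    (K : ℕ) (z : A) (hz : ∀ y ∈ I ^ K, x ∣ y * z) : x ∣ z := by
  by_contra hxz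
  let zb : A ⧸ Ideal.span {x} := Ideal.Quotient.mk _ z
  have hzb : zb ≠ 0 := fun h => hxz (Ideal.mem_span_singleton.1 (Ideal.Quotient.eq_zero_iff_mem.1 h))
  have hcolon : ∀ a : A, a ∈ (⊥ : Submodule A (A ⧸ Ideal.span {x})).colon {zb} ↔ x ∣ a * z := fun a => by
    rw [Submodule.mem_colon_singleton, Submodule.mem_bot, ← Ideal.mem_span_singleton,
      ← Ideal.Quotient.eq_zero_iff_mem]
    rfl
  obtain ⟨p, hp, hle⟩ := exists_le_isAssociatedPrime_of_isNoetherianRing A zb hzb
  haveI := hp.isPrime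
  obtain ⟨hpp, c, hc⟩ := isAssociatedPrime_iff.1 hp
  obtain ⟨w, rfl⟩ := Ideal.Quotient.mk_surjective c
  have hpc : ∀ a : A, a ∈ p ↔ x ∣ a * w := fun a => by
    rw [hc, Submodule.mem_colon_singleton, Submodule.mem_bot, ← Ideal.mem_span_singleton,
      ← Ideal.Quotient.eq_zero_iff_mem]
    rfl
  have hIp : I ≤ p := fun a ha => hpp.mem_of_pow_mem K (hle ((hcolon _).2 (hz _ (Ideal.pow_mem_pow ha K))))
  haveI : Module.Flat A (Localization.AtPrime p) := IsLocalization.flat _ p.primeCompl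
  have hreg' : IsSMulRegular (Localization.AtPrime p) (algebraMap A (Localization.AtPrime p) x) := hx.of_flat
  have hxm : algebraMap A (Localization.AtPrime p) x ∈ maximalIdeal (Localization.AtPrime p) :=
    (IsLocalization.AtPrime.to_map_mem_maximal_iff _ p x).2 (hIp hxI)
  obtain ⟨v, hv⟩ := sat_of_two_le_depth (hI p hIp) hxm hreg' (algebraMap A _ w) fun a ha => by
    obtain ⟨⟨b, s⟩, rfl⟩ := IsLocalization.mk'_surjective p.primeCompl a
    obtain ⟨d, hd⟩ := (hpc b).1 ((IsLocalization.AtPrime.mk'_mem_maximal_iff _ p b s).1 ha)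
    refine ⟨IsLocalization.mk' _ d s, ?_⟩
    rw [mul_comm, IsLocalization.mul_mk'_eq_mk'_of_mul, IsLocalization.mul_mk'_eq_mk'_of_mul, mul_comm w b, hd]
  obtain ⟨⟨d, s⟩, rfl⟩ := IsLocalization.mk'_surjective p.primeCompl v
  rw [IsLocalization.mul_mk'_eq_mk'_of_mul, IsLocalization.eq_mk'_iff_mul_eq, ← map_mul] at hv
  obtain ⟨m, hm⟩ := (IsLocalization.eq_iff_exists p.primeCompl _).1 hv
  exact (p.primeCompl.mul_mem m.2 s.2) ((hpc _).2 ⟨(m : A) * d, by linear_combination hm⟩)

/-- Saturation for powers of the regular element. -/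
theorem sat_pow {x : A} (hx : IsSMulRegular A x) (hsat : ∀ (K : ℕ) (z : A), (∀ y ∈ I ^ K, x ∣ y * z) → x ∣ z)
    (j K : ℕ) (z : A) (hz : ∀ y ∈ I ^ K, x ^ j ∣ y * z) : x ^ j ∣ z := by
  induction j generalizing z with
  | zero => exact pow_zero x ▸ one_dvd z
  | succ j ih =>
    obtain ⟨z', rfl⟩ := hsat K z fun y hy => dvd_trans (dvd_pow_self x j.succ_ne_zero) (hz y hy)
    obtain ⟨c, rfl⟩ := ih z' fun y hy => by
      obtain ⟨c, hc⟩ := hz y hy
      exact ⟨c, hx (show x * (y * z') = x * (x ^ j * c) by linear_combination hc)⟩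
    exact ⟨c, by ring⟩

/-- A module which is finite away from `V(I)`, separated by forms and saturated is finite. -/
theorem finite_of_saturated {R : Type u} [AddCommGroup R] [Module A R] {x : A} (hxI : x ∈ I)
    (hx : IsSMulRegular A x) (hsat : ∀ (K : ℕ) (z : A), (∀ y ∈ I ^ K, x ∣ y * z) → x ∣ z)
    (hxR : IsSMulRegular R x) (M : Submodule A R) (hM : M.FG)
    (hRM : ∀ z : R, ∃ K, ∀ y ∈ I ^ K, y • z ∈ M)
    (hsep : ∀ m : M, (∀ ψ : M →ₗ[A] A, ψ m = 0) → m = 0) : Module.Finite A R := by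
  haveI : Module.Finite A M := Module.Finite.of_fg hM
  have key : ∀ (z : R) (ψ : M →ₗ[A] A), ∃ w : A, ∀ (K : ℕ) (hz : x ^ K • z ∈ M), x ^ K * w = ψ ⟨_, hz⟩ := by
    intro z ψ
    obtain ⟨K, hK⟩ := hRM z
    have hzK : x ^ K • z ∈ M := hK _ (Ideal.pow_mem_pow hxI K)
    obtain ⟨w, hw⟩ := sat_pow I hx hsat K K (ψ ⟨_, hzK⟩) fun y hy => ⟨ψ ⟨_, hK y hy⟩, by
      have e : y • (⟨_, hzK⟩ : M) = x ^ K • ⟨_, hK y hy⟩ := Subtype.ext (smul_comm y (x ^ K) z)
      exact ((ψ.map_smul _ _).symm.trans ((congrArg ψ e).trans (ψ.map_smul _ _)))⟩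
    refine ⟨w, fun L hL => hx.pow K ?_⟩
    have e : x ^ K • (⟨_, hL⟩ : M) = x ^ L • ⟨_, hzK⟩ := Subtype.ext (smul_comm (x ^ K) (x ^ L) z)
    have e' : x ^ K * ψ ⟨_, hL⟩ = x ^ L * ψ ⟨_, hzK⟩ :=
      ((ψ.map_smul _ _).symm.trans ((congrArg ψ e).trans (ψ.map_smul _ _)))
    show x ^ K * (x ^ L * w) = x ^ K * ψ ⟨_, hL⟩
    rw [e', hw]
    ring
  choose w hw using key
  have hex : ∀ z : R, ∃ K, x ^ K • z ∈ M := fun z => (hRM z).imp fun K hK => hK _ (Ideal.pow_mem_pow hxI K)
  have cancel : ∀ (K : ℕ) (a b : A), x ^ K * a = x ^ K * b → a = b := fun K a b e => hx.pow K e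
  let L : R → (M →ₗ[A] A) →ₗ[A] A := fun z =>
    { toFun := w z
      map_add' := fun ψ φ => by
        obtain ⟨K, hK⟩ := hex z
        refine cancel K _ _ ?_
        rw [mul_add, hw z ψ K hK, hw z φ K hK, hw z (ψ + φ) K hK]
        rfl
      map_smul' := fun a ψ => by
        obtain ⟨K, hK⟩ := hex z
        refine cancel K _ _ ?_
        rw [RingHom.id_apply, smul_eq_mul, mul_left_comm, hw z ψ K hK, hw z (a • ψ) K hK]
        rfl }
  let Φ : R →ₗ[A] ((M →ₗ[A] A) →ₗ[A] A) :=
    { toFun := L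
      map_add' := fun z z' => LinearMap.ext fun ψ => by
        obtain ⟨K, hK⟩ := hex z
        obtain ⟨J, hJ⟩ := hex z'
        have h1 : x ^ (K + J) • z ∈ M := by rw [pow_add, mul_comm, mul_smul]; exact M.smul_mem _ hK
        have h2 : x ^ (K + J) • z' ∈ M := by rw [pow_add, mul_smul]; exact M.smul_mem _ hJ
        have h3 : x ^ (K + J) • (z + z') ∈ M := by rw [smul_add]; exact M.add_mem h1 h2
        refine cancel (K + J) _ _ ?_
        show _ * w _ ψ = _ * (w z ψ + w z' ψ)
        rw [mul_add, hw z ψ _ h1, hw z' ψ _ h2, hw _ ψ _ h3, ← map_add]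
        exact congrArg ψ (Subtype.ext (smul_add _ _ _))
      map_smul' := fun a z => LinearMap.ext fun ψ => by
        obtain ⟨K, hK⟩ := hex z
        have h3 : x ^ K • a • z ∈ M := by rw [smul_comm]; exact M.smul_mem _ hK
        refine cancel K _ _ ?_
        show _ * w _ ψ = _ * (a * w z ψ)
        rw [mul_left_comm, hw z ψ _ hK, hw _ ψ _ h3, ← smul_eq_mul a, ← map_smul]
        exact congrArg ψ (Subtype.ext (smul_comm _ _ _)) }
  haveI : IsNoetherian A ((M →ₗ[A] A) →ₗ[A] A) := inferInstance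
  refine Module.Finite.of_injective Φ ((injective_iff_map_eq_zero Φ).2 fun z hz => ?_)
  obtain ⟨K, hK⟩ := hex z
  have h0 : (⟨_, hK⟩ : M) = 0 := hsep _ fun ψ => by
    rw [← hw z ψ K hK, show w z ψ = 0 from congr($hz ψ), mul_zero]
  exact hxR.pow K (show x ^ K • z = x ^ K • (0 : R) by rw [smul_zero]; exact congrArg Subtype.val h0)

/-- Saturation gives depth two of the local rings over `V(I)`. -/
theorem two_le_depth_localization {B : Type u} [CommRing B] [IsNoetherianRing B] [Algebra A B] {x : A} (hxI : x ∈ I)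
    (hxB : IsSMulRegular B x)
    (hsat : ∀ z : B, (∀ y ∈ I, ∃ c : B, y • z = x • c) → ∃ c : B, z = x • c)
    (q : Ideal B) [q.IsPrime] (hq : I ≤ q.comap (algebraMap A B))
    (S : Type u) [CommRing S] [Algebra B S] [IsLocalization.AtPrime S q] [IsLocalRing S] [IsNoetherianRing S] :
    2 ≤ depth S S := by
  classical
  let x' := algebraMap A B x
  have hxB' : IsSMulRegular B x' := fun a b h => hxB (by simpa [Algebra.smul_def] using h)
  haveI : Module.Flat B S := IsLocalization.flat _ q.primeCompl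
  refine two_le_depth_of_sat (x := algebraMap B S x') ((IsLocalization.AtPrime.to_map_mem_maximal_iff S q x').2 (hq hxI))
    hxB'.of_flat fun z hz => ?_
  obtain ⟨⟨b, s⟩, rfl⟩ := IsLocalization.mk'_surjective q.primeCompl z
  obtain ⟨T, hT⟩ := IsNoetherian.noetherian I
  have hex : ∀ y : T, ∃ t : q.primeCompl, ∃ c : B, (t : B) * (algebraMap A B y.1 * b) = x' * c := by
    intro y
    obtain ⟨v, hv⟩ := hz (algebraMap B S (algebraMap A B y.1))
      ((IsLocalization.AtPrime.to_map_mem_maximal_iff S q _).2 (hq (hT ▸ Submodule.subset_span y.2)))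
    obtain ⟨⟨d, t⟩, rfl⟩ := IsLocalization.mk'_surjective q.primeCompl v
    rw [IsLocalization.mul_mk'_eq_mk'_of_mul, IsLocalization.mul_mk'_eq_mk'_of_mul, IsLocalization.mk'_eq_iff_eq,
      IsLocalization.eq_iff_exists q.primeCompl] at hv
    obtain ⟨m, hm⟩ := hv
    exact ⟨m * t, (m : B) * s * d, by push_cast; linear_combination hm⟩
  choose t c hc using hex
  let u : q.primeCompl := ∏ y, t y
  have hu : ∀ y : T, ∃ d, (u : B) * (algebraMap A B y.1 * b) = x' * d := fun y => by
    obtain ⟨k, hk⟩ := Finset.dvd_prod_of_mem t (Finset.mem_univ y)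
    exact ⟨(k : B) * c y, by rw [show u = t y * k from hk]; push_cast; linear_combination (k : B) * hc y⟩
  obtain ⟨d, hd⟩ := hsat ((u : B) * b) fun y hy => by
    rw [← hT] at hy
    induction hy using Submodule.span_induction with
    | mem y hy =>
      obtain ⟨d, hd⟩ := hu ⟨y, hy⟩
      exact ⟨d, by simp only [Algebra.smul_def]; linear_combination hd⟩
    | zero => exact ⟨0, by simp⟩
    | add y₁ y₂ _ _ h₁ h₂ =>
      obtain ⟨d₁, h₁⟩ := h₁
      obtain ⟨d₂, h₂⟩ := h₂
      exact ⟨d₁ + d₂, by rw [add_smul, h₁, h₂, smul_add]⟩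
    | smul a y _ h =>
      obtain ⟨d, h⟩ := h
      exact ⟨a • d, by rw [smul_assoc, h, smul_comm]⟩
  refine ⟨IsLocalization.mk' S d (u * s), ?_⟩
  rw [IsLocalization.mul_mk'_eq_mk'_of_mul, IsLocalization.mk'_eq_iff_eq]
  congr 1
  rw [Algebra.smul_def] at hd
  push_cast
  linear_combination (s : B) * hd

end Ring

end Groth.Agent.H18Pur.Saturated
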