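import Mathlib
import Groth.Agent.H18Pur.SectionsEtale
import Groth.Agent.H18Pur.Saturated
import Groth.Agent.H05EGA4.SerreCond

/-!
# Sections of a finite étale cover across a closed subset of depth two
-/

set_option autoImplicit false
set_option backward.isDefEq.respectTransparency false

universe u

open CategoryTheory CategoryTheory.Limits AlgebraicGeometry TopologicalSpace

namespace Groth.Agent.H18Pur

open Saturated

/-- Over an affine open: the sections are finite and saturated along the complement of `U`. -/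
theorem sections_finite_and_saturated {X V : Scheme.{u}} [IsLocallyNoetherian X] (U : X.Opens)
    (hU : ∀ x : X, x ∉ U → (2 : ℕ∞) ≤ LocCoh.depth (X.presheaf.stalk x) (X.presheaf.stalk x))
    (g : V ⟶ U) [IsFinite g] [Etale g] {D : X.Opens} (hD : IsAffineOpen D) :
    letI : Algebra Γ(X, D) Γ(V, (g ≫ U.ι) ⁻¹ᵁ D) := ((g ≫ U.ι).app D).hom.toAlgebra
    Module.Finite Γ(X, D) Γ(V, (g ≫ U.ι) ⁻¹ᵁ D) ∧
      ∃ (I : Ideal Γ(X, D)) (x : Γ(X, D)), x ∈ I ∧
        (∀ p : PrimeSpectrum Γ(X, D), hD.fromSpec p ∉ U → I ≤ p.asIdeal) ∧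
        IsSMulRegular Γ(V, (g ≫ U.ι) ⁻¹ᵁ D) x ∧
        ∀ z : Γ(V, (g ≫ U.ι) ⁻¹ᵁ D), (∀ y ∈ I, ∃ c, y • z = x • c) → ∃ c, z = x • c := by
  classical
  let f := g ≫ U.ι
  let A := Γ(X, D)
  let R := Γ(V, f ⁻¹ᵁ D)
  haveI : IsNoetherianRing A := IsLocallyNoetherian.component_noetherian ⟨D, hD⟩
  letI : Algebra A R := (f.app D).hom.toAlgebra
  haveI : QuasiCompact f := inferInstance
  haveI : QuasiSeparated f := inferInstance
  -- cover `U ⊓ D` by basic opens
  let G : Set A := {a | X.basicOpen a ≤ U}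
  let I : Ideal A := Ideal.span G
  obtain ⟨T, hTG, hT⟩ := Submodule.fg_span_iff_fg_span_finset_subset G |>.mp (IsNoetherian.noetherian (Ideal.span G))
  let ι := Fin T.card
  let a : ι → A := fun i => (T.equivFin.symm i).1
  have haU : ∀ i, X.basicOpen (a i) ≤ U := fun i => hTG (T.equivFin.symm i).2
  have haI : ∀ i, a i ∈ I := fun i => Ideal.subset_span (hTG (T.equivFin.symm i).2)
  have hspan : ∀ p : Ideal A, (∀ i, a i ∈ p) → I ≤ p := fun p hp => by
    show Ideal.span G ≤ p
    rw [show Ideal.span G = Ideal.span (T : Set A) from hT, Ideal.span_le]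
    intro b hb
    simpa [a] using hp (T.equivFin ⟨b, hb⟩)
  -- the primes containing `I` are the points outside `U`
  have hIp : ∀ p : PrimeSpectrum A, hD.fromSpec p ∉ U → I ≤ p.asIdeal := fun p hp => by
    refine Ideal.span_le.2 fun b hb => ?_
    by_contra hbp
    refine hp (hb ?_)
    have h3 : p ∈ PrimeSpectrum.basicOpen b := hbp
    exact (hD.fromSpec_preimage_basicOpen b).ge h3
  have hpI : ∀ p : PrimeSpectrum A, hD.fromSpec p ∈ U → ¬ I ≤ p.asIdeal := fun p hp hle => by
    have hxD : hD.fromSpec p ∈ D := by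
      have := Set.mem_range_self (f := hD.fromSpec) p
      rwa [hD.range_fromSpec] at this
    obtain ⟨b, hbU, hxb⟩ := hD.exists_basicOpen_le (V := U) ⟨_, hp⟩ hxD
    exact ((hD.fromSpec_preimage_basicOpen b).le hxb) (hle (Ideal.subset_span hbU))
  -- depth at those primes
  have hdepth : ∀ (p : Ideal A) [p.IsPrime], I ≤ p →
      2 ≤ LocCoh.depth (Localization.AtPrime p) (Localization.AtPrime p) := fun p hp hle => by
    let x : X := hD.fromSpec ⟨p, hp⟩
    have hxD : x ∈ D := by
      rw [← hD.opensRange_fromSpec]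
      exact ⟨_, rfl⟩
    letI := TopCat.Presheaf.algebra_section_stalk X.presheaf (⟨x, hxD⟩ : D)
    haveI : IsLocalization.AtPrime (X.presheaf.stalk x) p := hD.isLocalization_stalk' ⟨p, hp⟩ hxD
    have hx : x ∉ U := fun h => hpI ⟨p, hp⟩ h hle
    rw [← Groth.Agent.H05EGA4.depth_eq_of_ringEquiv
      (IsLocalization.algEquiv p.primeCompl (X.presheaf.stalk x) (Localization.AtPrime p)).toRingEquiv]
    exact hU x hx
  obtain ⟨x, hxI, hx⟩ := exists_regular_of_depth I hdepth
  have hsatA : ∀ (K : ℕ) (z : A), (∀ y ∈ I ^ K, x ∣ y * z) → x ∣ z := sat_of_depth I hdepth hxI hx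
  -- the cover of `f ⁻¹ D`
  have hcover : f ⁻¹ᵁ D ≤ ⨆ i, f ⁻¹ᵁ X.basicOpen (a i) := by
    intro v hv
    have hvU : f v ∈ U := (g v).2
    obtain ⟨b, hbU, hxb⟩ := hD.exists_basicOpen_le (V := U) ⟨_, hvU⟩ hv
    by_contra hnot
    simp only [Opens.mem_iSup, not_exists] at hnot
    let q := hD.primeIdealOf ⟨f v, hv⟩
    have hq : ∀ c : A, f v ∈ X.basicOpen c ↔ c ∉ q.asIdeal := fun c => by
      have := congrArg (fun O : (Spec A).Opens => q ∈ O) (hD.fromSpec_preimage_basicOpen c)
      change (hD.fromSpec q ∈ X.basicOpen c) = _ at this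
      rw [show hD.fromSpec q = f v from hD.fromSpec_primeIdealOf ⟨f v, hv⟩] at this
      exact this ▸ Iff.rfl
    exact (hq b).mp hxb (hspan q.asIdeal (fun i => not_not.mp fun h => hnot i ((hq (a i)).mpr h))
      (Ideal.subset_span hbU))
  have hle : ∀ c : A, f ⁻¹ᵁ X.basicOpen c ≤ f ⁻¹ᵁ D := fun c => f.preimage_mono (X.basicOpen_le c)
  -- restriction to `f ⁻¹ D(c)` is a localization
  have hloc : ∀ c : A, @IsLocalization.Away R _ (algebraMap A R c) Γ(V, f ⁻¹ᵁ X.basicOpen c) _
      (V.presheaf.map (homOfLE (hle c)).op).hom.toAlgebra := fun c => by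
    let inst : Algebra R Γ(V, f ⁻¹ᵁ X.basicOpen c) := (V.presheaf.map (homOfLE (hle c)).op).hom.toAlgebra
    let : Algebra R Γ(V, V.basicOpen (f.app D c)) :=
      (V.presheaf.map (homOfLE (V.basicOpen_le _)).op).hom.toAlgebra
    show IsLocalization.Away (f.app D c) _
    dsimp +instances [inst]
    rw! (castMode := .all) [f.preimage_basicOpen c]
    exact isLocalization_basicOpen_of_qcqs (f.isCompact_preimage hD.isCompact)
      (f.isQuasiSeparated_preimage hD.isQuasiSeparated) (f.app D c)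
  -- each piece
  have hpiece : ∀ c : A, X.basicOpen c ≤ U →
      (∀ s : A, IsSMulRegular A s → ∀ u v : Γ(V, f ⁻¹ᵁ X.basicOpen c),
        V.presheaf.map (homOfLE (hle c)).op (algebraMap A R s) * u =
          V.presheaf.map (homOfLE (hle c)).op (algebraMap A R s) * v → u = v) ∧
      (∀ (M : Submodule A R), M.FG → ∀ m : M, (∀ ψ : M →ₗ[A] A, ψ m = 0) →
        V.presheaf.map (homOfLE (hle c)).op (m : R) = 0) ∧
      ∃ S : Finset R, ∀ z : R, ∃ N : ℕ, c ^ N • z ∈ Submodule.span A (S : Set R) := by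
    intro c hc
    obtain ⟨hfin, het, -⟩ := app_finite_etale_of_le g (hD.basicOpen c) hc
    letI : Algebra A Γ(X, X.basicOpen c) := (X.presheaf.map (homOfLE (X.basicOpen_le c)).op).hom.toAlgebra
    haveI : IsLocalization.Away c Γ(X, X.basicOpen c) := hD.isLocalization_basicOpen c
    letI : Algebra R Γ(V, f ⁻¹ᵁ X.basicOpen c) := (V.presheaf.map (homOfLE (hle c)).op).hom.toAlgebra
    haveI := hloc c
    letI : Algebra Γ(X, X.basicOpen c) Γ(V, f ⁻¹ᵁ X.basicOpen c) := (f.app (X.basicOpen c)).hom.toAlgebra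
    letI : Algebra A Γ(V, f ⁻¹ᵁ X.basicOpen c) :=
      ((V.presheaf.map (homOfLE (hle c)).op).hom.comp (algebraMap A R)).toAlgebra
    haveI : IsScalarTower A R Γ(V, f ⁻¹ᵁ X.basicOpen c) := IsScalarTower.of_algebraMap_eq fun _ => rfl
    haveI : IsScalarTower A Γ(X, X.basicOpen c) Γ(V, f ⁻¹ᵁ X.basicOpen c) :=
      IsScalarTower.of_algebraMap_eq fun y =>
        (congr($(f.naturality (homOfLE (X.basicOpen_le c)).op) y)).symm
    haveI : Module.Finite Γ(X, X.basicOpen c) Γ(V, f ⁻¹ᵁ X.basicOpen c) := hfin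
    haveI : Algebra.Etale Γ(X, X.basicOpen c) Γ(V, f ⁻¹ᵁ X.basicOpen c) := RingHom.etale_algebraMap.mp het
    haveI : Algebra.Etale A Γ(X, X.basicOpen c) := Algebra.Etale.of_isLocalizationAway c
    haveI : Algebra.Etale A Γ(V, f ⁻¹ᵁ X.basicOpen c) := Algebra.Etale.comp A Γ(X, X.basicOpen c) _
    refine ⟨fun s hs u v huv => ?_, fun M hM m hm => ?_, ?_⟩
    · have hreg : IsSMulRegular Γ(V, f ⁻¹ᵁ X.basicOpen c) (algebraMap A Γ(V, f ⁻¹ᵁ X.basicOpen c) s) :=
        hs.of_flat
      exact hreg huv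
    · haveI : Module.Finite A M := Module.Finite.of_fg hM
      haveI : Module.FinitePresentation A M := Module.finitePresentation_of_finite A M
      haveI : IsNoetherianRing Γ(X, X.basicOpen c) :=
        IsLocallyNoetherian.component_noetherian ⟨_, hD.basicOpen c⟩
      haveI : Module.FinitePresentation Γ(X, X.basicOpen c) Γ(V, f ⁻¹ᵁ X.basicOpen c) :=
        Module.finitePresentation_of_finite _ _
      haveI : Module.Flat Γ(X, X.basicOpen c) Γ(V, f ⁻¹ᵁ X.basicOpen c) := inferInstance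
      haveI : Module.Projective Γ(X, X.basicOpen c) Γ(V, f ⁻¹ᵁ X.basicOpen c) :=
        Module.Flat.projective_of_finitePresentation
      obtain ⟨n, π, j, -, -, hπj⟩ := Module.Finite.exists_comp_eq_id_of_projective Γ(X, X.basicOpen c)
        Γ(V, f ⁻¹ᵁ X.basicOpen c)
      let ρ : R →ₗ[A] Γ(V, f ⁻¹ᵁ X.basicOpen c) :=
        (IsScalarTower.toAlgHom A R Γ(V, f ⁻¹ᵁ X.basicOpen c)).toLinearMap
      have hj : j (ρ m) = 0 := by
        refine funext fun k => ?_
        let φ : M →ₗ[A] Γ(X, X.basicOpen c) :=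
          ((LinearMap.proj k).comp j).restrictScalars A ∘ₗ ρ ∘ₗ M.subtype
        obtain ⟨ψ, s, hψ⟩ := Module.FinitePresentation.exists_lift_of_isLocalizedModule (Submonoid.powers c)
          (Algebra.linearMap A Γ(X, X.basicOpen c)) φ
        have h1 := LinearMap.congr_fun hψ m
        rw [LinearMap.comp_apply, hm, map_zero, LinearMap.smul_apply] at h1
        exact ((IsLocalization.map_units Γ(X, X.basicOpen c) s).mul_right_eq_zero).1 (by
          rw [← Algebra.smul_def]; exact h1.symm)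
      show ρ m = 0
      rw [← LinearMap.id_apply (R := Γ(X, X.basicOpen c)) (ρ m), ← hπj, LinearMap.comp_apply, hj, map_zero]
    obtain ⟨gens, hgens⟩ := Module.Finite.fg_top (R := Γ(X, X.basicOpen c)) (M := Γ(V, f ⁻¹ᵁ X.basicOpen c))
    choose num hnum using fun w : Γ(V, f ⁻¹ᵁ X.basicOpen c) =>
      IsLocalization.surj (Submonoid.powers (algebraMap A R c)) w
    refine ⟨gens.image fun w => (num w).1, ?_⟩
    set W₀ := Submodule.span A ((gens.image fun w => (num w).1 : Finset R) : Set R)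
    let ρ := algebraMap R Γ(V, f ⁻¹ᵁ X.basicOpen c)
    have key : ∀ w ∈ Submodule.span Γ(X, X.basicOpen c) (gens : Set Γ(V, f ⁻¹ᵁ X.basicOpen c)),
        ∃ (N : ℕ) (y : R), y ∈ W₀ ∧ c ^ N • w = ρ y := by
      intro w hw
      induction hw using Submodule.span_induction with
      | mem w hw =>
        obtain ⟨n, hn⟩ := (Submonoid.mem_powers_iff _ _).mp (num w).2.2
        refine ⟨n, (num w).1, Submodule.subset_span (Finset.mem_image_of_mem _ hw), ?_⟩
        rw [← hnum w, ← hn, Algebra.smul_def, IsScalarTower.algebraMap_apply A R, map_pow (algebraMap A R), mul_comm]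
      | zero => exact ⟨0, 0, W₀.zero_mem, by rw [smul_zero, map_zero]⟩
      | add u v _ _ hu hv =>
        obtain ⟨N, y, hy, hyu⟩ := hu
        obtain ⟨M, z, hz, hzv⟩ := hv
        refine ⟨N + M, c ^ M • y + c ^ N • z, W₀.add_mem (W₀.smul_mem _ hy) (W₀.smul_mem _ hz), ?_⟩
        rw [smul_add, map_add, Algebra.smul_def (c ^ M) y, map_mul, Algebra.smul_def (c ^ N) z, map_mul,
          ← hyu, ← hzv]
        show _ = algebraMap R _ (algebraMap A R _) * _ + algebraMap R _ (algebraMap A R _) * _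
        rw [← IsScalarTower.algebraMap_apply, ← IsScalarTower.algebraMap_apply, ← Algebra.smul_def,
          ← Algebra.smul_def, smul_smul, smul_smul, ← pow_add, ← pow_add, add_comm M N]
      | smul r u _ hu =>
        obtain ⟨N, y, hy, hyu⟩ := hu
        obtain ⟨⟨r₀, _, m, rfl⟩, hr⟩ := IsLocalization.surj (Submonoid.powers c) r
        refine ⟨N + m, r₀ • y, W₀.smul_mem _ hy, ?_⟩
        rw [Algebra.smul_def r₀ y, map_mul, ← hyu]
        show _ = algebraMap R _ (algebraMap A R _) * _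
        rw [← IsScalarTower.algebraMap_apply, IsScalarTower.algebraMap_apply A Γ(X, X.basicOpen c) _ r₀, ← hr]
        simp only [Algebra.smul_def, map_mul, map_pow, ← IsScalarTower.algebraMap_apply]
        ring
    intro z
    obtain ⟨N, y, hy, hyz⟩ := key (ρ z) (hgens ▸ Submodule.mem_top)
    obtain ⟨⟨_, k, rfl⟩, hk⟩ := (IsLocalization.eq_iff_exists (Submonoid.powers (algebraMap A R c))
      Γ(V, f ⁻¹ᵁ X.basicOpen c) (x := c ^ N • z) (y := y)).mp (by
        rw [Algebra.smul_def, map_mul, ← IsScalarTower.algebraMap_apply, ← Algebra.smul_def]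
        exact hyz)
    refine ⟨k + N, ?_⟩
    rw [pow_add, ← smul_smul, Algebra.smul_def (c ^ k), map_pow, show algebraMap A R c ^ k * c ^ N • z = algebraMap A R c ^ k * y from hk,
      ← map_pow, ← Algebra.smul_def]
    exact W₀.smul_mem _ hy
  -- regularity on the sections
  have hxR : IsSMulRegular R x := fun u v huv => by
    refine V.sheaf.eq_of_locally_eq' (fun i => f ⁻¹ᵁ X.basicOpen (a i)) _ (fun i => homOfLE (hle _)) hcover u v fun i => ?_
    refine (hpiece _ (haU i)).1 x hx _ _ ?_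
    have h1 := congrArg (V.presheaf.map (homOfLE (hle (a i))).op) (show x • u = x • v from huv)
    rwa [Algebra.smul_def, Algebra.smul_def, map_mul, map_mul] at h1
  -- gluing quotients by `x`
  have hglue : ∀ z : R, (∀ i, ∃ y : R, a i • z = x • y) → ∃ y, z = x • y := by
    intro z hz
    choose y hy using hz
    let σ := fun c : A => V.presheaf.map (homOfLE (hle c)).op (algebraMap A R x)
    have hw : ∀ i, ∃ w : Γ(V, f ⁻¹ᵁ X.basicOpen (a i)),
        σ (a i) * w = V.presheaf.map (homOfLE (hle (a i))).op z := fun i => by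
      letI : Algebra R Γ(V, f ⁻¹ᵁ X.basicOpen (a i)) := (V.presheaf.map (homOfLE (hle (a i))).op).hom.toAlgebra
      haveI := hloc (a i)
      refine ⟨IsLocalization.mk' Γ(V, f ⁻¹ᵁ X.basicOpen (a i)) (y i)
        (⟨_, 1, rfl⟩ : Submonoid.powers (algebraMap A R (a i))), ?_⟩
      show algebraMap R _ (algebraMap A R x) * _ = algebraMap R _ z
      rw [IsLocalization.mul_mk'_eq_mk'_of_mul, ← Algebra.smul_def, ← hy i, IsLocalization.mk'_eq_iff_eq_mul,
        ← map_mul, mul_comm z, Algebra.smul_def]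
      simp only [pow_one]
    choose w hw using hw
    have hcompat : TopCat.Presheaf.IsCompatible V.sheaf.1 (fun i => f ⁻¹ᵁ X.basicOpen (a i)) w := fun i j => by
      have he : f ⁻¹ᵁ X.basicOpen (a i) ⊓ f ⁻¹ᵁ X.basicOpen (a j) = f ⁻¹ᵁ X.basicOpen (a i * a j) := by
        rw [X.basicOpen_mul, Scheme.Hom.preimage_inf]
      have hli : f ⁻¹ᵁ X.basicOpen (a i * a j) ≤ f ⁻¹ᵁ X.basicOpen (a i) := he.symm.le.trans inf_le_left
      have hlj : f ⁻¹ᵁ X.basicOpen (a i * a j) ≤ f ⁻¹ᵁ X.basicOpen (a j) := he.symm.le.trans inf_le_right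
      have key : V.presheaf.map (homOfLE hli).op (w i) = V.presheaf.map (homOfLE hlj).op (w j) := by
        refine (hpiece _ (by rw [X.basicOpen_mul]; exact inf_le_left.trans (haU i))).1 x hx _ _ ?_
        have h1 := congrArg (V.presheaf.map (homOfLE hli).op) (hw i)
        have h2 := congrArg (V.presheaf.map (homOfLE hlj).op) (hw j)
        rw [map_mul, ← ConcreteCategory.comp_apply, ← ConcreteCategory.comp_apply, ← V.presheaf.map_comp] at h1 h2
        exact h1.trans h2.symm
      have h3 := congrArg (V.presheaf.map (homOfLE he.le).op) key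
      rw [← ConcreteCategory.comp_apply, ← ConcreteCategory.comp_apply, ← V.presheaf.map_comp, ← V.presheaf.map_comp] at h3
      exact h3
    obtain ⟨y₀, hy₀, -⟩ := V.sheaf.existsUnique_gluing' (fun i => f ⁻¹ᵁ X.basicOpen (a i)) (f ⁻¹ᵁ D)
      (fun i => homOfLE (hle _)) hcover w hcompat
    let t : R := y₀
    refine ⟨t, ?_⟩
    refine V.sheaf.eq_of_locally_eq' (fun i => f ⁻¹ᵁ X.basicOpen (a i)) _ (fun i => homOfLE (hle _)) hcover z _ fun i => ?_
    show V.presheaf.map (homOfLE (hle _)).op z = V.presheaf.map (homOfLE (hle _)).op (x • t)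
    rw [Algebra.smul_def, map_mul, show V.presheaf.map (homOfLE (hle _)).op t = w i from hy₀ i]
    exact (hw i).symm
  refine ⟨?_, I, x, hxI, hIp, hxR, fun z hz => hglue z fun i => hz _ (haI i)⟩
  -- finiteness
  choose S hS using fun i => (hpiece (a i) (haU i)).2.2
  let M : Submodule A R := ⨆ i, Submodule.span A (S i : Set R)
  have hM : M.FG := Submodule.fg_iSup _ fun i => Submodule.fg_span (S i).finite_toSet
  refine finite_of_saturated I hxI hx hsatA hxR M hM (fun z => ?_) fun m hm => ?_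
  · have hJ : I ≤ (M.colon {z}).radical := hspan _ fun i => by
      obtain ⟨N, hN⟩ := hS i z
      exact ⟨N, Submodule.mem_colon_singleton.2 (le_iSup (fun i => Submodule.span A (S i : Set R)) i hN)⟩
    obtain ⟨K, hK⟩ := Ideal.exists_pow_le_of_le_radical_of_fg hJ (IsNoetherian.noetherian I)
    exact ⟨K, fun y hy => Submodule.mem_colon_singleton.1 (hK hy)⟩
  · refine Subtype.ext ?_
    refine V.sheaf.eq_of_locally_eq' (fun i => f ⁻¹ᵁ X.basicOpen (a i)) _ (fun i => homOfLE (hle _)) hcover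
      (m : R) 0 fun i => ?_
    rw [map_zero]
    exact (hpiece _ (haU i)).2.1 M hM m hm

end Groth.Agent.H18Pur
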