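import Mathlib
import Groth.Agent.H18Pur.S2Sections

/-!
# The finite `S₂` extension of a finite étale cover
-/

set_option autoImplicit false
set_option backward.isDefEq.respectTransparency false

universe u

open CategoryTheory CategoryTheory.Limits AlgebraicGeometry TopologicalSpace

namespace Groth.Agent.H18Pur

/-- A finite étale cover of `U` extends to a finite scheme over `X` of depth two over the complement. -/
theorem exists_S2_extension {X V : Scheme.{u}} [IsLocallyNoetherian X] (U : X.Opens)
    (hU : ∀ x : X, x ∉ U → (2 : ℕ∞) ≤ LocCoh.depth (X.presheaf.stalk x) (X.presheaf.stalk x))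
    (g : V ⟶ U) [IsFinite g] [Etale g] :
    ∃ (Y : Scheme.{u}) (π : Y ⟶ X) (e : pullback π U.ι ≅ V), IsFinite π ∧
      e.hom ≫ g = pullback.snd π U.ι ∧
      ∀ y : Y, π y ∉ U → (2 : ℕ∞) ≤ LocCoh.depth (Y.presheaf.stalk y) (Y.presheaf.stalk y) := by
  let f := g ≫ U.ι
  haveI : QuasiCompact f := inferInstance
  haveI : QuasiSeparated f := inferInstance
  -- the sections over an affine open are those of the normalization
  have hθ : ∀ (D : X.Opens), IsAffineOpen D →
      ∃ θ : Γ(f.normalization, f.fromNormalization ⁻¹ᵁ D) ⟶ Γ(V, f ⁻¹ᵁ D),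
        Function.Bijective θ ∧ f.fromNormalization.app D ≫ θ = f.app D := by
    intro D hD
    letI : Algebra Γ(X, D) Γ(V, f ⁻¹ᵁ D) := (f.app D).hom.toAlgebra
    haveI : Module.Finite Γ(X, D) Γ(V, f ⁻¹ᵁ D) := (sections_finite_and_saturated U hU g hD).1
    refine ⟨(f.normalizationObjIso hD).hom ≫ CommRingCat.ofHom (Subalgebra.val _).toRingHom, ?_, ?_⟩
    · have h2 : Function.Bijective (Subtype.val : integralClosure Γ(X, D) Γ(V, f ⁻¹ᵁ D) → Γ(V, f ⁻¹ᵁ D)) :=
        ⟨Subtype.val_injective, fun r => ⟨⟨r, IsIntegral.of_finite Γ(X, D) r⟩, rfl⟩⟩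
      exact h2.comp (ConcreteCategory.bijective_of_isIso (f.normalizationObjIso hD).hom)
    · rw [f.fromNormalization_app hD, Category.assoc, Iso.inv_hom_id_assoc]
      rfl
  have hfin : ∀ (D : X.Opens), IsAffineOpen D → (f.fromNormalization.app D).hom.Finite := by
    intro D hD
    obtain ⟨θ, hθb, hθc⟩ := hθ D hD
    letI : Algebra Γ(X, D) Γ(V, f ⁻¹ᵁ D) := (f.app D).hom.toAlgebra
    have h1 : (f.app D).hom.Finite := (sections_finite_and_saturated U hU g hD).1
    rw [← hθc] at h1
    haveI : IsIso θ := (ConcreteCategory.isIso_iff_bijective θ).2 hθb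
    exact (RingHom.finite_respectsIso.cancel_right_isIso (f.fromNormalization.app D) θ).1 h1
  haveI : IsFinite f.fromNormalization := { finite_app := hfin }
  -- over `U` it is `V`
  haveI : Smooth U.ι := inferInstance
  haveI : IsIso (pullback.fst f U.ι) := ⟨pullback.lift (𝟙 V) g (by simp [f]), by
    rw [← cancel_mono (pullback.fst f U.ι), Category.assoc, pullback.lift_fst, Category.id_comp, Category.comp_id],
    pullback.lift_fst _ _ _⟩
  have hsnd : pullback.fst f U.ι ≫ g = pullback.snd f U.ι := by
    rw [← cancel_mono U.ι, Category.assoc, pullback.condition]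
  haveI : IsFinite (pullback.snd f U.ι) := hsnd ▸ inferInstance
  let e : pullback f.fromNormalization U.ι ≅ V :=
    (asIso (f.normalizationPullback U.ι)).symm ≪≫ (asIso (pullback.snd f U.ι).toNormalization).symm ≪≫
      asIso (pullback.fst f U.ι)
  have hcomp : f.normalizationPullback U.ι ≫ pullback.snd _ _ = (pullback.snd f U.ι).fromNormalization :=
    f.normalizationPullback_snd U.ι
  refine ⟨f.normalization, f.fromNormalization, e, inferInstance, ?_, fun y hy => ?_⟩
  · simp only [e, Iso.trans_hom, Iso.symm_hom, asIso_hom, asIso_inv, Category.assoc, hsnd]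
    rw [IsIso.inv_comp_eq, IsIso.inv_comp_eq, hcomp, Scheme.Hom.toNormalization_fromNormalization]
  -- depth over the complement
  obtain ⟨D, hD, hyD, -⟩ := exists_isAffineOpen_mem_and_subset (Set.mem_univ (f.fromNormalization y))
    (U := (⊤ : X.Opens))
  obtain ⟨θ, hθb, hθc⟩ := hθ D hD
  let E := f.fromNormalization ⁻¹ᵁ D
  have hE : IsAffineOpen E := hD.preimage f.fromNormalization
  let A := Γ(X, D)
  let B := Γ(f.normalization, E)
  let R := Γ(V, f ⁻¹ᵁ D)
  haveI : IsNoetherianRing A := IsLocallyNoetherian.component_noetherian ⟨D, hD⟩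
  letI : Algebra A R := (f.app D).hom.toAlgebra
  letI : Algebra A B := (f.fromNormalization.app D).hom.toAlgebra
  haveI : Module.Finite A B := hfin D hD
  haveI : IsNoetherianRing B := IsNoetherianRing.of_finite A B
  obtain ⟨-, I, x, hxI, hIp, hxR, hsat⟩ := sections_finite_and_saturated U hU g hD
  let θ' : B →ₐ[A] R := { θ.hom with commutes' := fun a => congr($hθc a) }
  have hθinj : Function.Injective θ' := hθb.1
  have hxB : IsSMulRegular B x := fun u v huv => hθinj (hxR (by
    show x • θ' u = x • θ' v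
    rw [← map_smul, ← map_smul, show x • u = x • v from huv]))
  have hsatB : ∀ z : B, (∀ a ∈ I, ∃ c, a • z = x • c) → ∃ c, z = x • c := fun z hz => by
    obtain ⟨c, hc⟩ := hsat (θ' z) fun a ha => by
      obtain ⟨c, hc⟩ := hz a ha
      refine ⟨θ' c, ?_⟩
      show a • θ' z = x • θ' c
      rw [← map_smul, ← map_smul, hc]
    obtain ⟨d, rfl⟩ := hθb.2 c
    refine ⟨d, hθinj ?_⟩
    rw [map_smul]
    exact hc
  have hyE : y ∈ E := hyD
  let q := hE.primeIdealOf ⟨y, hyE⟩
  have hq : I ≤ q.asIdeal.comap (algebraMap A B) := by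
    refine hIp (PrimeSpectrum.comap (algebraMap A B) q) ?_
    have h1 : Spec.map (f.fromNormalization.appLE D E le_rfl) ≫ hD.fromSpec = hE.fromSpec ≫ f.fromNormalization :=
      IsAffineOpen.SpecMap_appLE_fromSpec f.fromNormalization hD hE le_rfl
    have h2 : hD.fromSpec (PrimeSpectrum.comap (algebraMap A B) q) = f.fromNormalization (hE.fromSpec q) := by
      have h3 := congrArg (fun k : Spec B ⟶ X => k q) h1
      rw [← Scheme.Hom.app_eq_appLE] at h3
      exact h3
    rw [h2, hE.fromSpec_primeIdealOf ⟨y, hyE⟩]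
    exact hy
  letI := TopCat.Presheaf.algebra_section_stalk f.normalization.presheaf (⟨y, hyE⟩ : E)
  haveI : IsLocalization.AtPrime (f.normalization.presheaf.stalk y) q.asIdeal :=
    hE.isLocalization_stalk ⟨y, hyE⟩
  haveI : IsNoetherianRing (f.normalization.presheaf.stalk y) :=
    IsLocalization.isNoetherianRing q.asIdeal.primeCompl _ inferInstance
  exact Saturated.two_le_depth_localization I hxI hxB hsatB q.asIdeal hq (f.normalization.presheaf.stalk y)

end Groth.Agent.H18Pur
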