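import Mathlib
import Groth.Agent.H18Pur.Equivalence
import Groth.Agent.H18Et.FEtNormalOutside
import Groth.Agent.H18Et.FEtLimit
import Groth.Agent.H8Props.FlatDimOneBase
import Groth.Prelude.Def_Pi1

/-!
# Finite étale covers and proper birational morphisms onto regular schemes
-/

set_option autoImplicit false
set_option backward.isDefEq.respectTransparency false

universe u

open CategoryTheory CategoryTheory.Limits AlgebraicGeometry TopologicalSpace

namespace Groth.Agent.H18Pur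

variable {X Y : Scheme.{u}} [IsIntegral X] [IsIntegral Y] (f : X ⟶ Y) [IsProper f]

/-- A section over an open of a birational separated morphism is an inverse there. -/
theorem isIso_of_section (V : Y.Opens) (hV : (V : Set Y).Nonempty) (hf : IsIso (f ∣_ V)) (W : Y.Opens)
    (σ : (W : Scheme.{u}) ⟶ X) (hσ : σ ≫ f = W.ι) : IsIso (f ∣_ W) := by
  let σ' : (W : Scheme.{u}) ⟶ (f ⁻¹ᵁ W : X.Opens) := IsOpenImmersion.lift (f ⁻¹ᵁ W).ι σ (by
    rw [Scheme.Opens.range_ι]
    rintro _ ⟨w, rfl⟩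
    show f (σ w) ∈ W
    rw [← Scheme.Hom.comp_apply, hσ]
    exact w.2)
  have hσ' : σ' ≫ (f ⁻¹ᵁ W).ι = σ := IsOpenImmersion.lift_fac _ _ _
  refine ⟨σ', ?_, ?_⟩
  · rw [← cancel_mono (f ⁻¹ᵁ W).ι, Category.assoc, hσ', Category.id_comp]
    by_cases hW : Nonempty (f ⁻¹ᵁ W : X.Opens)
    swap
    · exact Scheme.hom_ext_of_forall _ _ fun x => (hW ⟨x⟩).elim
    obtain ⟨x⟩ := hW
    let O : (f ⁻¹ᵁ W : X.Opens).toScheme.Opens := (f ⁻¹ᵁ W).ι ⁻¹ᵁ (f ⁻¹ᵁ V)
    -- the generic point is in all nonempty opens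
    have hη : ∀ (U : X.Opens), (U : Set X).Nonempty → genericPoint X ∈ U := fun U hU =>
      ((genericPoint_spec X).mem_open_set_iff U.isOpen).mpr (by simpa using hU)
    have hVne : ((f ⁻¹ᵁ V : X.Opens) : Set X).Nonempty := by
      obtain ⟨y, hy⟩ := hV
      exact ⟨(f ⁻¹ᵁ V).ι ((inv (f ∣_ V)) ⟨y, hy⟩), Subtype.coe_prop _⟩
    have hOne : ((O : (f ⁻¹ᵁ W : X.Opens).toScheme.Opens) : Set (f ⁻¹ᵁ W : X.Opens).toScheme).Nonempty :=
      ⟨⟨genericPoint X, hη _ ⟨x.1, x.2⟩⟩, hη _ hVne⟩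
    haveI : Nonempty (f ⁻¹ᵁ W : X.Opens).toScheme := ⟨x⟩
    haveI : IsIntegral (f ⁻¹ᵁ W : X.Opens).toScheme := isIntegral_of_isOpenImmersion (f ⁻¹ᵁ W).ι
    haveI : IsDominant O.ι := ⟨by
      rw [DenseRange, Scheme.Opens.range_ι]
      exact O.2.dense hOne⟩
    -- two morphisms over `Y` into the separated `X`
    let a := (f ⁻¹ᵁ W).ι
    let b := (f ∣_ W) ≫ σ
    have hab : a ≫ f = b ≫ f := by
      simp only [a, b, Category.assoc, hσ, morphismRestrict_ι]
    show b = a
    letI : Scheme.Over (f ⁻¹ᵁ W : X.Opens).toScheme Y := ⟨a ≫ f⟩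
    letI : X.Over Y := ⟨f⟩
    refine ext_of_isDominant_of_isSeparated f hab.symm O.ι ?_
    have hr : ∀ (c : (O : Scheme.{u}) ⟶ X), c ≫ f = O.ι ≫ a ≫ f → Set.range c ⊆ Set.range (f ⁻¹ᵁ V).ι := by
      intro c hc
      rw [Scheme.Opens.range_ι]
      rintro _ ⟨z, rfl⟩
      show f (c z) ∈ V
      rw [← Scheme.Hom.comp_apply, hc, Scheme.Hom.comp_apply, Scheme.Hom.comp_apply]
      exact z.2
    rw [← IsOpenImmersion.lift_fac (f ⁻¹ᵁ V).ι (O.ι ≫ b) (hr _ (by rw [Category.assoc, ← hab])),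
      ← IsOpenImmersion.lift_fac (f ⁻¹ᵁ V).ι (O.ι ≫ a) (hr _ (Category.assoc _ _ _))]
    congr 1
    rw [← cancel_mono (f ∣_ V), ← cancel_mono V.ι]
    simp only [Category.assoc, morphismRestrict_ι, IsOpenImmersion.lift_fac_assoc]
    rw [hab]
  · rw [← cancel_mono W.ι, Category.assoc, morphismRestrict_ι, reassoc_of% hσ', hσ, Category.id_comp]

/-- A proper birational morphism is an isomorphism near the points whose local ring is a valuation ring. -/
theorem exists_isIso_nhd (V : Y.Opens) (hV : (V : Set Y).Nonempty) (hf : IsIso (f ∣_ V)) (y : Y)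
    [ValuationRing (Y.presheaf.stalk y)] : ∃ W : Y.Opens, y ∈ W ∧ IsIso (f ∣_ W) := by
  have hη : genericPoint Y ∈ V := ((genericPoint_spec Y).mem_open_set_iff V.isOpen).mpr (by simpa using hV)
  let i₂ := Y.fromSpecStalk y
  let jK : Spec (.of Y.functionField) ⟶ Spec (Y.presheaf.stalk y) :=
    Spec.map (CommRingCat.ofHom (algebraMap (Y.presheaf.stalk y) Y.functionField))
  have hjK : jK ≫ i₂ = Y.fromSpecStalk (genericPoint Y) :=
    Scheme.SpecMap_stalkSpecializes_fromSpecStalk ((genericPoint_spec Y).specializes (Set.mem_univ y))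
  let i₁ : Spec (.of Y.functionField) ⟶ X :=
    V.fromSpecStalkOfMem (genericPoint Y) hη ≫ inv (f ∣_ V) ≫ (f ⁻¹ᵁ V).ι
  have hi₁ : i₁ ≫ f = jK ≫ i₂ := by
    rw [hjK]
    simp only [i₁, Category.assoc]
    rw [← morphismRestrict_ι, IsIso.inv_hom_id_assoc, Scheme.Opens.fromSpecStalkOfMem_ι]
  have hv : ((ValuativeCriterion ⊓ @QuasiCompact ⊓ @QuasiSeparated ⊓ @LocallyOfFiniteType :
      MorphismProperty Scheme.{u})) f := by
    rw [← IsProper.eq_valuativeCriterion]
    infer_instance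
  haveI := (ValuativeCriterion.iff.1 hv.1.1.1).1
    { R := Y.presheaf.stalk y, K := Y.functionField, i₁ := i₁, i₂ := i₂, commSq := ⟨hi₁⟩ }
  let sq : CommSq i₁ jK f i₂ := ⟨hi₁⟩
  haveI : sq.HasLift := this
  obtain ⟨W, hyW, σ, -, hσ⟩ := spread_out_of_isGermInjective' (𝟙 Y) f (x := y) sq.lift
    (by rw [sq.fac_right, Category.comp_id])
  exact ⟨W, hyW, isIso_of_section f V hV hf W σ (hσ.trans (Category.comp_id _))⟩

/-- Isomorphisms over a union of opens. -/
theorem isIso_morphismRestrict_iSup {ι : Type*} (W : ι → Y.Opens) (h : ∀ i, IsIso (f ∣_ W i)) :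
    IsIso (f ∣_ ⨆ i, W i) := by
  let U := ⨆ i, W i
  have hcov : IsOpenCover fun i => U.ι ⁻¹ᵁ W i := by
    rw [IsOpenCover, ← Scheme.Hom.preimage_iSup]
    exact Opens.ext (Set.eq_univ_of_forall fun z => z.2)
  refine (IsZariskiLocalAtTarget.iff_of_iSup_eq_top (P := MorphismProperty.isomorphisms Scheme.{u}) _ hcov).2
    fun i => ?_
  rw [(MorphismProperty.isomorphisms Scheme.{u}).arrow_mk_iso_iff (morphismRestrictRestrict f _ _)]
  rw [(MorphismProperty.isomorphisms Scheme.{u}).arrow_mk_iso_iff (morphismRestrictEq f (V := W i) ?_)]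
  · exact h i
  · rw [Scheme.Hom.image_preimage_eq_opensRange_inf, Scheme.Opens.opensRange_ι, inf_eq_right]
    exact le_iSup W i

/-- Pulling back finite étale covers along a proper birational morphism from a normal scheme onto a
regular one is an equivalence. -/
theorem restrict_isEquivalence_of_birational [IsLocallyNoetherian Y] (hX : Pi1.IsNormalScheme X)
    (hY : ∀ y : Y, IsRegularLocalRing (Y.presheaf.stalk y))
    (V : Y.Opens) (hV : (V : Set Y).Nonempty) (hf : IsIso (f ∣_ V)) : (FEt.restrict f).IsEquivalence := by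
  let U : Y.Opens := ⨆ W : {W : Y.Opens // IsIso (f ∣_ W)}, W.1
  haveI hU : IsIso (f ∣_ U) := isIso_morphismRestrict_iSup f _ fun W => W.2
  have hVU : V ≤ U := le_iSup (fun W : {W : Y.Opens // IsIso (f ∣_ W)} => W.1) ⟨V, hf⟩
  have hdim : ∀ y : Y, y ∉ U → (2 : WithBot ℕ∞) ≤ ringKrullDim (Y.presheaf.stalk y) := by
    intro y hy
    by_contra hlt
    have h1 : ringKrullDim (Y.presheaf.stalk y) ≤ 1 := by
      revert hlt
      cases ringKrullDim (Y.presheaf.stalk y) with
      | bot => intro; exact bot_le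
      | coe a =>
        intro hlt
        refine WithBot.coe_le_coe.2 ?_
        have : ¬ (2 : ℕ∞) ≤ a := fun h => hlt (WithBot.coe_le_coe.2 h)
        induction a using ENat.recTopCoe with
        | top => exact absurd le_top this
        | coe n =>
          have hn : ¬ 2 ≤ n := fun h => this (by exact_mod_cast h)
          exact_mod_cast (show n ≤ 1 by omega)
    haveI := hY y
    haveI := H8Props.FlatDimOneBase.isPrincipalIdealRing_of_dim_le_one (Y.presheaf.stalk y) h1
    obtain ⟨W, hyW, hW⟩ := exists_isIso_nhd f V hV hf y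
    exact hy (le_iSup (fun W : {W : Y.Opens // IsIso (f ∣_ W)} => W.1) ⟨W, hW⟩ hyW)
  haveI := LocallyOfFiniteType.isLocallyNoetherian f
  let j : (U : Scheme.{u}) ⟶ X := inv (f ∣_ U) ≫ (f ⁻¹ᵁ U).ι
  have hj : j ≫ f = U.ι := by
    simp only [j, Category.assoc]
    rw [← morphismRestrict_ι, IsIso.inv_hom_id_assoc]
  have hne : (U : Set Y).Nonempty := hV.mono hVU
  have hdense : Dense (Set.range j) := by
    refine (Scheme.Hom.isOpenEmbedding j).isOpen_range.dense ?_
    exact ⟨j ⟨hne.some, hne.some_mem⟩, Set.mem_range_self _⟩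
  obtain ⟨hfull, hfaith⟩ := H18Et.FEtNormalOutside.full_faithful j hdense fun x _ => hX x
  haveI : (FEt.restrict U.ι).IsEquivalence := restrict_isEquivalence hY U hdim
  let e : FEt.restrict f ⋙ FEt.restrict j ≅ FEt.restrict U.ι :=
    (MorphismProperty.Over.pullbackComp (P := FEt.prop.{u}) (Q := ⊤) j f).symm ≪≫
      MorphismProperty.Over.pullbackCongr hj
  haveI : (FEt.restrict f ⋙ FEt.restrict j).IsEquivalence := Functor.isEquivalence_of_iso e.symm
  haveI : (FEt.restrict j).EssSurj :=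
    ⟨fun Z => ⟨(FEt.restrict f).obj ((FEt.restrict f ⋙ FEt.restrict j).objPreimage Z),
      ⟨(FEt.restrict f ⋙ FEt.restrict j).objObjPreimageIso Z⟩⟩⟩
  haveI : (FEt.restrict j).IsEquivalence := { full := hfull, faithful := hfaith, essSurj := ‹_› }
  exact Functor.isEquivalence_of_comp_right (FEt.restrict f) (FEt.restrict j)

end Groth.Agent.H18Pur
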