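import Mathlib
import Groth.Agent.H18Pur.Sat
import Groth.Agent.H3CAlg.NoEmbedded

/-!
# Finite normal extensions have depth two
-/

set_option autoImplicit false

universe u

open IsLocalRing

namespace Groth.Agent.H18Pur

theorem sat_of_isIntegrallyClosed (A B : Type u) [CommRing A] [IsLocalRing A] [IsNoetherianRing A] [IsDomain A]
    [IsIntegrallyClosed A] (hA : 1 < (maximalIdeal A).height) [CommRing B] [IsDomain B] [IsIntegrallyClosed B]
    [Algebra A B] [Module.Finite A B] (hinj : Function.Injective (algebraMap A B)) : Sat A B where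
  eq_zero x hx := by
    have hm : maximalIdeal A ≠ ⊥ := fun h0 => by
      rw [h0, Ideal.height_bot] at hA
      exact absurd hA (by simp)
    obtain ⟨a, ha, ha0⟩ := Submodule.exists_mem_ne_zero_of_ne_bot hm
    have := hx a ha
    rw [Algebra.smul_def, mul_eq_zero] at this
    exact this.resolve_left (fun h => ha0 (hinj (h.trans (map_zero _).symm)))
  exists_eq s hs x hx := by
    haveI : IsNoetherianRing B := IsNoetherianRing.of_finite A B
    haveI : FaithfulSMul A B := (faithfulSMul_iff_algebraMap_injective A B).mpr hinj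
    haveI : Algebra.HasGoingDown A B := inferInstance
    by_contra hne
    have hs0 : algebraMap A B s ≠ 0 := fun h => hs (hinj (h.trans (map_zero _).symm))
    let I : Ideal B := Ideal.span {algebraMap A B s}
    have hx0 : (Ideal.Quotient.mk I x : B ⧸ I) ≠ 0 := fun h0 => by
      obtain ⟨y, hy⟩ := Ideal.mem_span_singleton.mp (Ideal.Quotient.eq_zero_iff_mem.mp h0)
      exact hne ⟨y, by rw [hy, Algebra.smul_def]⟩
    obtain ⟨P, hP, hle⟩ := exists_le_isAssociatedPrime_of_isNoetherianRing (R := B) _ hx0
    haveI := hP.isPrime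
    have hh := H3CAlg.NoEmbedded.height_le_one_of_mem_associatedPrimes hs0 hP
    have hmP : maximalIdeal A ≤ P.comap (algebraMap A B) := fun a ha => by
      obtain ⟨y, hy⟩ := hx a ha
      refine Ideal.mem_comap.mpr (hle (Submodule.mem_colon_singleton.mpr ((Submodule.mem_bot B).mpr ?_)))
      show Ideal.Quotient.mk I (algebraMap A B a * x) = 0
      rw [Ideal.Quotient.eq_zero_iff_mem, Ideal.mem_span_singleton]
      exact ⟨y, by rw [← Algebra.smul_def, hy, Algebra.smul_def]⟩
    haveI : P.LiesOver (maximalIdeal A) :=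
      ⟨le_antisymm hmP (le_maximalIdeal (Ideal.IsPrime.ne_top (Ideal.IsPrime.comap _)))⟩
    rw [Ideal.height_eq_height_add_of_liesOver_of_hasGoingDown (maximalIdeal A) P] at hh
    exact absurd ((le_self_add.trans hh)) (not_le.mpr hA)

end Groth.Agent.H18Pur
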