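import Mathlib
import Groth.Agent.H18Pur.Core
import Groth.Agent.H18Pur.NormalSat
import Groth.Agent.H17.SmoothPoint

/-!
# Purity at one prime of a finite normal extension
-/

set_option autoImplicit false

universe u

open IsLocalRing TensorProduct nonZeroDivisors

namespace Groth.Agent.H18Pur

/-- A finite torsion-free module over a domain embeds in a finite free one. -/
theorem exists_embedding (A : Type u) [CommRing A] [IsDomain A] (C : Type u) [AddCommGroup C] [Module A C]
    [Module.Finite A C] (hreg : ∀ s : A, s ≠ 0 → IsSMulRegular C s) :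
    ∃ (n : ℕ) (f : C →ₗ[A] (Fin n → A)), Function.Injective f := by
  classical
  let K := FractionRing A
  let L := LocalizedModule A⁰ C
  let j : C →ₗ[A] L := LocalizedModule.mkLinearMap A⁰ C
  have hj : Function.Injective j := by
    rw [injective_iff_map_eq_zero]
    intro z hz
    obtain ⟨⟨s, hs⟩, hsz⟩ := (IsLocalizedModule.eq_zero_iff A⁰ j).mp hz
    exact hreg s (nonZeroDivisors.ne_zero hs) (show s • z = s • 0 by rw [smul_zero]; exact hsz)
  haveI : Module.Finite K L := Module.Finite.of_isLocalizedModule A⁰ j
  let b := Module.finBasis K L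
  obtain ⟨T, hT⟩ := (Module.Finite.fg_top : (⊤ : Submodule A C).FG)
  obtain ⟨⟨d₀, hd₀⟩, hd⟩ := IsLocalization.exist_integer_multiples_of_finite A⁰
    (fun p : T × Fin (Module.finrank K L) => b.repr (j p.1) p.2)
  let Φ : C →ₗ[A] (Fin (Module.finrank K L) → K) :=
    ((((algebraMap A K d₀) • (LinearMap.id : (Fin (Module.finrank K L) → K) →ₗ[K] _)).comp
      b.equivFun.toLinearMap).restrictScalars A).comp j
  let ι : (Fin (Module.finrank K L) → A) →ₗ[A] (Fin (Module.finrank K L) → K) :=
    LinearMap.pi fun i => (Algebra.linearMap A K).comp (LinearMap.proj i)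
  have hι : Function.Injective ι := fun u v huv => funext fun i => IsFractionRing.injective A K (congrFun huv i)
  have hΦ : Function.Injective Φ := fun u v huv => hj (b.equivFun.injective (funext fun i => by
    have h2 : algebraMap A K d₀ * b.repr (j u) i = algebraMap A K d₀ * b.repr (j v) i := by
      simpa [Φ, Algebra.smul_def] using congrFun huv i
    simpa using mul_left_cancel₀ ((map_ne_zero_iff _ (IsFractionRing.injective A K)).mpr
      (nonZeroDivisors.ne_zero hd₀)) h2))
  have hall : (⊤ : Submodule A C) ≤ (LinearMap.range ι).comap Φ := by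
    rw [← hT, Submodule.span_le]
    intro t ht
    have hh : ∀ i, ∃ r : A, algebraMap A K r = Φ t i := fun i => by
      obtain ⟨r, hr⟩ := hd (⟨t, ht⟩, i)
      refine ⟨r, hr.trans ?_⟩
      show d₀ • _ = _
      simp [Φ, Algebra.smul_def]
    choose r hr using hh
    exact ⟨r, funext hr⟩
  let e := LinearEquiv.ofInjective ι hι
  let g : C →ₗ[A] LinearMap.range ι := Φ.codRestrict _ fun z => hall Submodule.mem_top
  refine ⟨_, e.symm.toLinearMap.comp g, ?_⟩
  exact e.symm.injective.comp fun u v huv => hΦ (congrArg Subtype.val huv)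

/-- Purity at a single prime: a finite normal extension of a regular local ring which is étale at all
primes strictly below a prime over the closed point is étale there. -/
theorem isEtaleAt_of_below {A C : Type u} [CommRing A] [IsRegularLocalRing A]
    (hA : (2 : WithBot ℕ∞) ≤ ringKrullDim A) [CommRing C] [IsDomain C] [IsIntegrallyClosed C]
    [Algebra A C] [Module.Finite A C] (hinj : Function.Injective (algebraMap A C)) (q : Ideal C) [q.IsPrime]
    (hq : q.comap (algebraMap A C) = maximalIdeal A)
    (h : ∀ (q' : Ideal C) [q'.IsPrime], q' < q → Algebra.IsEtaleAt A q') : Algebra.IsEtaleAt A q := by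
  classical
  haveI : IsDomain A := H4Depth.isDomain_of_isRegularLocalRing A
  haveI : IsIntegrallyClosed A := H05EGA4.isIntegrallyClosed_of_isRegularLocalRing A
  haveI : IsNoetherianRing C := IsNoetherianRing.of_finite A C
  haveI : Algebra.FinitePresentation A C := Algebra.FinitePresentation.of_finiteType.mp inferInstance
  obtain ⟨n, x, hn, -⟩ := H4Depth.exists_regular_system_of_parameters A
  have hn2 : 2 ≤ n := by
    rw [hn] at hA
    exact_mod_cast hA
  have hh : 1 < (maximalIdeal A).height := by
    refine WithBot.coe_lt_coe.mp ?_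
    rw [maximalIdeal_height_eq_ringKrullDim, hn]
    exact_mod_cast hn2
  have hm : maximalIdeal A ≠ ⊥ := fun h0 => by
    rw [h0, Ideal.height_bot] at hh
    exact absurd hh (by simp)
  have hSC : Sat A C := sat_of_isIntegrallyClosed A C hh hinj
  have hregC : ∀ s : A, s ≠ 0 → IsSMulRegular C s := fun s hs u v huv => by
    simp only [Algebra.smul_def] at huv
    exact mul_left_cancel₀ (fun h0 => hs (hinj (h0.trans (map_zero _).symm))) huv
  -- base change to a complete strictly henselian ring
  obtain ⟨B, _, _, _, _, _, hff, hloc, hmap, hdim⟩ := exists_completeStrict A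
  haveI := hff
  haveI := hloc
  haveI : IsDomain B := H4Depth.isDomain_of_isRegularLocalRing B
  have hmapm : (maximalIdeal A).map (algebraMap A B) = maximalIdeal B := hmap
  let D := B ⊗[A] C
  have hSD : Sat B D := by
    refine sat_of_two_le_depth ?_ fun s hs => ?_
    · rw [H1CAlg.FlatDepthModule.depth_tensor]
      exact (hSC.two_le_depth hregC hm).trans le_self_add
    · obtain ⟨k, f, hf⟩ := exists_embedding A C hregC
      let g : D →ₗ[B] (Fin k → B) := (TensorProduct.piScalarRight A B B (Fin k)).toLinearMap.comp (f.baseChange B)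
      have hg : Function.Injective g :=
        (TensorProduct.piScalarRight A B B (Fin k)).injective.comp
          (Module.Flat.lTensor_preserves_injective_linearMap f hf)
      intro u v huv
      refine hg (funext fun i => mul_left_cancel₀ hs ?_)
      have := congrFun (congrArg g huv) i
      rwa [map_smul, map_smul] at this
  haveI : IsNoetherianRing D := IsNoetherianRing.of_finite B D
  haveI : HenselianLocalRing B := H06EGA14.henselianLocalRing_of_adicComplete B
  haveI := H9Hens.henselianRing_maximalIdeal B
  haveI := H9Hens.finite_maximalSpectrum (R := B) D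
  -- a maximal ideal over `q`
  letI : Algebra C D := Algebra.TensorProduct.rightAlgebra
  haveI : Module.Flat A B := inferInstance
  have hsurj : Function.Surjective (PrimeSpectrum.comap (algebraMap C D)) := by
    haveI : Algebra.IsPushout A C B D := Algebra.IsPushout.symm inferInstance
    haveI : Module.FaithfullyFlat C D := Module.FaithfullyFlat.of_linearEquiv _ _
      (Algebra.IsPushout.equiv A C B D).toLinearEquiv.symm
    exact PrimeSpectrum.comap_surjective_of_faithfullyFlat
  obtain ⟨⟨M, hM⟩, hMq⟩ := hsurj ⟨q, ‹_›⟩
  have hMq' : M.comap (algebraMap C D) = q := congrArg PrimeSpectrum.asIdeal hMq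
  have hover : ∀ (Q : Ideal D) [Q.IsPrime], (Q.comap (algebraMap C D)).comap (algebraMap A C) = maximalIdeal A →
      Q.comap (algebraMap B D) = maximalIdeal B := fun Q hQ h1 => by
    refine le_antisymm (le_maximalIdeal (Ideal.IsPrime.ne_top (Ideal.IsPrime.comap _))) ?_
    rw [← hmapm, Ideal.map_le_iff_le_comap]
    intro a ha
    rw [← h1, Ideal.mem_comap, Ideal.mem_comap] at ha
    rw [Ideal.mem_comap, Ideal.mem_comap, ← IsScalarTower.algebraMap_apply]
    convert ha using 1
    exact ((Algebra.TensorProduct.includeRight (R := A) (A := B) (B := C)).commutes a).symm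
  haveI hMmax : M.IsMaximal := by
    haveI : (M.comap (algebraMap B D)).IsMaximal := by
      rw [hover M (by rw [hMq', hq])]
      exact maximalIdeal.isMaximal B
    exact Ideal.isMaximal_of_isIntegral_of_isMaximal_comap (R := B) M inferInstance
  let P := fun N : MaximalSpectrum D => Localization.AtPrime N.asIdeal
  have hbij := H9Hens.toPiLocalization_bijective_of_idem_lift (R := B) (B := D)
    (fun b hb => H9Hens.exists_idem_lift (I := maximalIdeal B) b hb)
  let φ : D →ₐ[B] (Π N : MaximalSpectrum D, P N) :=
    { MaximalSpectrum.toPiLocalization D with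
      commutes' := fun r => funext fun N => (IsScalarTower.algebraMap_apply B D (P N) r).symm }
  let e : D ≃ₐ[B] (Π N, P N) := AlgEquiv.ofBijective φ hbij
  let M₀ : MaximalSpectrum D := ⟨M, hMmax⟩
  let p : D →ₗ[B] P M₀ := (LinearMap.proj M₀).comp e.toLinearEquiv.toLinearMap
  let i : P M₀ →ₗ[B] D := e.symm.toLinearEquiv.toLinearMap.comp (LinearMap.single B P M₀)
  have hpi : ∀ y, p (i y) = y := fun y => by
    show e (e.symm (Pi.single M₀ y)) M₀ = y
    rw [AlgEquiv.apply_symm_apply, Pi.single_eq_same]
  haveI : Module.Finite B (P M₀) := Module.Finite.of_surjective p fun y => ⟨i y, hpi y⟩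
  haveI : IsNoetherianRing (P M₀) := IsNoetherianRing.of_finite B (P M₀)
  haveI : Algebra.FinitePresentation B (P M₀) := Algebra.FinitePresentation.of_finiteType.mp inferInstance
  haveI : Algebra.FinitePresentation B D := Algebra.FinitePresentation.of_finiteType.mp inferInstance
  have hE : EtOff B (P M₀) := etOff_of_primes fun Q hQ hne => by
    haveI : IsLocalization.AtPrime (Localization.AtPrime Q) (Q.comap (algebraMap D (P M₀))) :=
      IsLocalization.isLocalization_isLocalization_atPrime_isLocalization M.primeCompl _ Q
    let Q₁ := Q.comap (algebraMap D (P M₀))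
    have hQM : Q₁ ≤ M := by
      refine le_trans (Ideal.comap_mono (le_maximalIdeal hQ.ne_top)) ?_
      exact (IsLocalization.AtPrime.comap_maximalIdeal (P M₀) M).le
    let q' := Q₁.comap (algebraMap C D)
    haveI : q'.IsPrime := Ideal.IsPrime.comap _
    have hlt : q' < q := by
      refine lt_of_le_of_ne (hMq' ▸ Ideal.comap_mono hQM) fun h1 => hne ?_
      have := hover Q₁ (by rw [show Q₁.comap (algebraMap C D) = q from h1, hq])
      rw [← this, Ideal.comap_comap, ← IsScalarTower.algebraMap_eq]
    haveI := h q' hlt
    obtain ⟨g, hgq, hg⟩ : ∃ g : C, g ∉ q' ∧ Algebra.Etale A (Localization.Away g) := by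
      obtain ⟨_, ⟨g, rfl⟩, hgmem, hgsub⟩ := PrimeSpectrum.isTopologicalBasis_basic_opens.exists_subset_of_mem_open
        (show (⟨q', inferInstance⟩ : PrimeSpectrum C) ∈ Algebra.etaleLocus A C from ‹Algebra.IsEtaleAt A q'›)
        (Algebra.isOpen_etaleLocus)
      exact ⟨g, hgmem, Algebra.basicOpen_subset_etaleLocus_iff_etale.mp hgsub⟩
    haveI : Algebra.Etale B (Localization.Away ((1 : B) ⊗ₜ[A] g)) :=
      Algebra.Etale.of_equiv (IsLocalization.Away.tensorProductEquivTMulRight A B g (Localization.Away g))
    haveI hQ₁ : Algebra.FormallyEtale B (Localization.AtPrime Q₁) := by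
      have hmem : (⟨Q₁, Ideal.IsPrime.comap _⟩ : PrimeSpectrum D) ∈
          (PrimeSpectrum.basicOpen ((1 : B) ⊗ₜ[A] g) : Set (PrimeSpectrum D)) := hgq
      exact Algebra.basicOpen_subset_etaleLocus_iff_etale.mpr inferInstance hmem
    exact Algebra.FormallyEtale.of_equiv ((IsLocalization.algEquiv Q₁.primeCompl
      (Localization.AtPrime Q₁) (Localization.AtPrime Q)).restrictScalars B)
  haveI := etale_of_sat n B (hdim.trans hn) hn2 (P M₀) (hSD.of_retract i p hpi) hE
  haveI : Algebra.FormallyEtale B (Localization.AtPrime M) := inferInstanceAs (Algebra.FormallyEtale B (P M₀))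
  haveI : M.LiesOver q := ⟨hMq'.symm⟩
  haveI : Algebra.IsSmoothAt B M := inferInstanceAs (Algebra.FormallySmooth B (Localization.AtPrime M))
  haveI : Algebra.IsUnramifiedAt B M := inferInstanceAs (Algebra.FormallyUnramified B (Localization.AtPrime M))
  haveI h1 : Algebra.FormallySmooth A (Localization.AtPrime q) := H17.SmoothPoint.isSmoothAt_of_baseChange (R := A) (R' := B) q M
  haveI h2 : Algebra.FormallyUnramified A (Localization.AtPrime q) := H17.SmoothPoint.isUnramifiedAt_of_baseChange (R := A) (R' := B) q M
  exact Algebra.FormallyEtale.iff_formallyUnramified_and_formallySmooth.mpr ⟨h2, h1⟩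

end Groth.Agent.H18Pur
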