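import Mathlib
import Groth.Agent.H18Pur.SectionsEtale
import Groth.Agent.H4Depth.Connected
import Groth.Agent.H1CAlg.Torsion

/-!
# Finiteness of the sections of a finite étale cover over an open of depth two complement
-/

set_option autoImplicit false
set_option backward.isDefEq.respectTransparency false

universe u

open CategoryTheory CategoryTheory.Limits AlgebraicGeometry TopologicalSpace

namespace Groth.Agent.H18Pur

/-- Saturation along an ideal of depth two. -/
theorem dvd_pow_of_depth_two {A : Type u} [CommRing A] [IsNoetherianRing A] [IsLocalRing A] {I : Ideal A} {x : A}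
    (hx : IsSMulRegular A x) (hx2 : ∀ (K : ℕ) (z : A), (∀ y ∈ I ^ K, ∃ c, y * z = x * c) → ∃ c, z = x * c)
    (j K : ℕ) (z : A) (hz : ∀ y ∈ I ^ K, ∃ c, y * z = x ^ j * c) : ∃ c, z = x ^ j * c := by
  induction j generalizing z with
  | zero => exact ⟨z, by rw [pow_zero, one_mul]⟩
  | succ j ih =>
    obtain ⟨z', rfl⟩ := hx2 K z fun y hy => by
      obtain ⟨c, hc⟩ := hz y hy
      exact ⟨x ^ j * c, by rw [hc]; ring⟩
    obtain ⟨c, rfl⟩ := ih z' fun y hy => by
      obtain ⟨c, hc⟩ := hz y hy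
      exact ⟨c, hx (show x * (y * z') = x * (x ^ j * c) by linear_combination hc)⟩
    exact ⟨c, by ring⟩

/-- A torsion free module which is finite away from an ideal of depth two and saturated is finite. -/
theorem finite_of_depth_two {A R : Type u} [CommRing A] [IsNoetherianRing A] [IsLocalRing A] [IsDomain A]
    [AddCommGroup R] [Module A R] [Module.IsTorsionFree A R] (I : Ideal A) (hI : 2 ≤ LocCoh.idealDepth I A)
    (M : Submodule A R) (hM : M.FG) (h : ∀ z : R, ∃ K, ∀ y ∈ I ^ K, y • z ∈ M) : Module.Finite A R := by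
  haveI : Module.Finite A M := Module.Finite.of_fg hM
  haveI : Module.IsTorsionFree A M := M.injective_subtype.moduleIsTorsionFree _ fun _ _ => rfl
  obtain ⟨n, ι, hι⟩ := H1CAlg.exists_injective_fin_of_torsionFree (R := A) (M := M)
  obtain ⟨x, hxI, hx, hx2⟩ := H4Depth.exists_regular_two hI
  have hx0 : x ≠ 0 := fun e => one_ne_zero (hx (show x • (1 : A) = x • (0 : A) by simp [e]))
  have key : ∀ z : R, ∃ w : Fin n → A, ∀ (K : ℕ) (hz : x ^ K • z ∈ M), x ^ K • w = ι ⟨_, hz⟩ := by
    intro z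
    obtain ⟨K, hK⟩ := h z
    have hzK : x ^ K • z ∈ M := hK _ (Ideal.pow_mem_pow hxI K)
    have : ∀ i, ∃ c, ι ⟨_, hzK⟩ i = x ^ K * c := fun i =>
      dvd_pow_of_depth_two hx hx2 K K _ fun y hy => by
        refine ⟨ι ⟨_, hK y hy⟩ i, ?_⟩
        have e : y • (⟨_, hzK⟩ : M) = x ^ K • ⟨_, hK y hy⟩ := Subtype.ext (smul_comm y (x ^ K) z)
        exact congrFun ((ι.map_smul _ _).symm.trans ((congrArg ι e).trans (ι.map_smul _ _))) i
    choose w hw using this
    refine ⟨w, fun L hL => ?_⟩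
    have e : x ^ K • (⟨_, hL⟩ : M) = x ^ L • ⟨_, hzK⟩ := Subtype.ext (smul_comm (x ^ K) (x ^ L) z)
    refine funext fun i => mul_left_cancel₀ (pow_ne_zero K hx0) ?_
    have e' : x ^ K * ι ⟨_, hL⟩ i = x ^ L * ι ⟨_, hzK⟩ i :=
      congrFun ((ι.map_smul _ _).symm.trans ((congrArg ι e).trans (ι.map_smul _ _))) i
    show x ^ K * (x ^ L * w i) = x ^ K * ι ⟨_, hL⟩ i
    rw [e', hw i]
    ring
  choose w hw using key
  have hex : ∀ z : R, ∃ K, x ^ K • z ∈ M := fun z => (h z).imp fun K hK => hK _ (Ideal.pow_mem_pow hxI K)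
  have cancel : ∀ (K : ℕ) (a b : Fin n → A), x ^ K • a = x ^ K • b → a = b := fun K a b e =>
    funext fun i => mul_left_cancel₀ (pow_ne_zero K hx0) (congrFun e i)
  let Φ : R →ₗ[A] (Fin n → A) :=
    { toFun := w
      map_add' := fun z z' => by
        obtain ⟨K, hK⟩ := hex z
        obtain ⟨L, hL⟩ := hex z'
        have h1 : x ^ (K + L) • z ∈ M := by rw [pow_add, mul_comm, mul_smul]; exact M.smul_mem _ hK
        have h2 : x ^ (K + L) • z' ∈ M := by rw [pow_add, mul_smul]; exact M.smul_mem _ hL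
        have h3 : x ^ (K + L) • (z + z') ∈ M := by rw [smul_add]; exact M.add_mem h1 h2
        refine cancel (K + L) _ _ ?_
        rw [smul_add, hw z _ h1, hw z' _ h2, hw _ _ h3, ← map_add]
        exact congrArg ι (Subtype.ext (smul_add _ _ _))
      map_smul' := fun a z => by
        obtain ⟨K, hK⟩ := hex z
        have h3 : x ^ K • a • z ∈ M := by rw [smul_comm]; exact M.smul_mem _ hK
        refine cancel K _ _ ?_
        rw [RingHom.id_apply, smul_comm (x ^ K) a, hw z _ hK, hw _ _ h3, ← map_smul]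
        exact congrArg ι (Subtype.ext (smul_comm _ _ _)) }
  refine Module.Finite.of_injective Φ ((injective_iff_map_eq_zero Φ).2 fun z hz => ?_)
  obtain ⟨K, hK⟩ := hex z
  have h0 : ι ⟨_, hK⟩ = 0 := by rw [← hw z K hK, show w z = 0 from hz, smul_zero]
  have h1 : x ^ K • z = 0 := congrArg Subtype.val (hι (h0.trans (map_zero ι).symm))
  exact (smul_eq_zero.mp h1).resolve_left (pow_ne_zero K hx0)

/-- The sections of a finite étale cover of an open whose complement has depth two are finite. -/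
theorem appTop_finite_of_depth_two {X V : Scheme.{u}} [IsAffine X] [IsNoetherianRing Γ(X, ⊤)] [IsDomain Γ(X, ⊤)]
    [IsLocalRing Γ(X, ⊤)] (U : X.Opens) (I : Ideal Γ(X, ⊤)) (hI : 2 ≤ LocCoh.idealDepth I Γ(X, ⊤))
    (hIU : ∀ c ∈ I, X.basicOpen c ≤ U) (hUI : ∀ x ∈ U, ∃ c ∈ I, x ∈ X.basicOpen c)
    (g : V ⟶ U) [IsFinite g] [Etale g] : ((g ≫ U.ι).appTop).hom.Finite := by
  classical
  let f := g ≫ U.ι
  let A := Γ(X, ⊤)
  let R := Γ(V, f ⁻¹ᵁ ⊤)
  letI : Algebra A R := (f.app ⊤).hom.toAlgebra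
  have hD : IsAffineOpen (⊤ : X.Opens) := isAffineOpen_top X
  haveI : QuasiCompact U.ι := by
    haveI : IsLocallyNoetherian X := by
      haveI : IsNoetherianRing (CommRingCat.of Γ(X, ⊤)) := ‹IsNoetherianRing Γ(X, ⊤)›
      exact LocallyOfFiniteType.isLocallyNoetherian X.isoSpec.hom
    infer_instance
  haveI : QuasiCompact f := inferInstance
  haveI : QuasiSeparated f := inferInstance
  have hle : ∀ c : A, f ⁻¹ᵁ X.basicOpen c ≤ f ⁻¹ᵁ ⊤ := fun c => f.preimage_mono (X.basicOpen_le c)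
  have hloc : ∀ c : A, @IsLocalization.Away R _ (algebraMap A R c) Γ(V, f ⁻¹ᵁ X.basicOpen c) _
      (V.presheaf.map (homOfLE (hle c)).op).hom.toAlgebra := fun c => by
    let inst : Algebra R Γ(V, f ⁻¹ᵁ X.basicOpen c) := (V.presheaf.map (homOfLE (hle c)).op).hom.toAlgebra
    let : Algebra R Γ(V, V.basicOpen (f.app ⊤ c)) :=
      (V.presheaf.map (homOfLE (V.basicOpen_le _)).op).hom.toAlgebra
    show IsLocalization.Away (f.app ⊤ c) _
    dsimp +instances [inst]
    rw! (castMode := .all) [f.preimage_basicOpen c]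
    exact isLocalization_basicOpen_of_qcqs (f.isCompact_preimage hD.isCompact)
      (f.isQuasiSeparated_preimage hD.isQuasiSeparated) (f.app ⊤ c)
  have hpiece : ∀ c ∈ I, (∀ (a : A), a ≠ 0 → ∀ z : R, a • z = 0 →
        V.presheaf.map (homOfLE (hle c)).op z = 0) ∧
      ∃ S : Finset R, ∀ z : R, ∃ N : ℕ, c ^ N • z ∈ Submodule.span A (S : Set R) := by
    intro c hc
    obtain ⟨hfin, het, -⟩ := app_finite_etale_of_le g (hD.basicOpen c) (hIU c hc)
    letI : Algebra A Γ(X, X.basicOpen c) := (X.presheaf.map (homOfLE (X.basicOpen_le c)).op).hom.toAlgebra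
    haveI : IsLocalization.Away c Γ(X, X.basicOpen c) := hD.isLocalization_basicOpen c
    letI : Algebra R Γ(V, f ⁻¹ᵁ X.basicOpen c) := (V.presheaf.map (homOfLE (hle c)).op).hom.toAlgebra
    haveI := hloc c
    letI : Algebra Γ(X, X.basicOpen c) Γ(V, f ⁻¹ᵁ X.basicOpen c) := (f.app (X.basicOpen c)).hom.toAlgebra
    letI : Algebra A Γ(V, f ⁻¹ᵁ X.basicOpen c) :=
      ((V.presheaf.map (homOfLE (hle c)).op).hom.comp (algebraMap A R)).toAlgebra
    haveI : IsScalarTower A R Γ(V, f ⁻¹ᵁ X.basicOpen c) := IsScalarTower.of_algebraMap_eq fun _ => rfl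
    haveI : IsScalarTower A Γ(X, X.basicOpen c) Γ(V, f ⁻¹ᵁ X.basicOpen c) :=
      IsScalarTower.of_algebraMap_eq fun y =>
        (congr($(f.naturality (homOfLE (X.basicOpen_le c)).op) y)).symm
    haveI : Module.Finite Γ(X, X.basicOpen c) Γ(V, f ⁻¹ᵁ X.basicOpen c) := hfin
    haveI : Algebra.Etale Γ(X, X.basicOpen c) Γ(V, f ⁻¹ᵁ X.basicOpen c) := RingHom.etale_algebraMap.mp het
    haveI : Algebra.Etale A Γ(X, X.basicOpen c) := Algebra.Etale.of_isLocalizationAway c
    haveI : Algebra.Etale A Γ(V, f ⁻¹ᵁ X.basicOpen c) := Algebra.Etale.comp A Γ(X, X.basicOpen c) _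
    refine ⟨fun a ha z hz => ?_, ?_⟩
    · have h1 : a • algebraMap R Γ(V, f ⁻¹ᵁ X.basicOpen c) z = 0 := by
        rw [Algebra.smul_def, IsScalarTower.algebraMap_apply A R, ← map_mul, ← Algebra.smul_def, hz, map_zero]
      exact (smul_eq_zero.mp h1).resolve_left ha
    obtain ⟨gens, hgens⟩ := Module.Finite.fg_top (R := Γ(X, X.basicOpen c)) (M := Γ(V, f ⁻¹ᵁ X.basicOpen c))
    choose num hnum using fun w : Γ(V, f ⁻¹ᵁ X.basicOpen c) =>
      IsLocalization.surj (Submonoid.powers (algebraMap A R c)) w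
    refine ⟨gens.image fun w => (num w).1, ?_⟩
    set W₀ := Submodule.span A ((gens.image fun w => (num w).1 : Finset R) : Set R)
    let ρ := algebraMap R Γ(V, f ⁻¹ᵁ X.basicOpen c)
    have key : ∀ w ∈ Submodule.span Γ(X, X.basicOpen c) (gens : Set Γ(V, f ⁻¹ᵁ X.basicOpen c)),
        ∃ (N : ℕ) (y : R), y ∈ W₀ ∧ c ^ N • w = ρ y := by
      intro w hw
      induction hw using Submodule.span_induction with
      | mem w hw =>
        obtain ⟨n, hn⟩ := (Submonoid.mem_powers_iff _ _).mp (num w).2.2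
        refine ⟨n, (num w).1, Submodule.subset_span (Finset.mem_image_of_mem _ hw), ?_⟩
        rw [← hnum w, ← hn, Algebra.smul_def, IsScalarTower.algebraMap_apply A R, map_pow (algebraMap A R), mul_comm]
      | zero => exact ⟨0, 0, W₀.zero_mem, by rw [smul_zero, map_zero]⟩
      | add u v _ _ hu hv =>
        obtain ⟨N, y, hy, hyu⟩ := hu
        obtain ⟨M, z, hz, hzv⟩ := hv
        refine ⟨N + M, c ^ M • y + c ^ N • z, W₀.add_mem (W₀.smul_mem _ hy) (W₀.smul_mem _ hz), ?_⟩
        rw [smul_add, map_add, Algebra.smul_def (c ^ M) y, map_mul, Algebra.smul_def (c ^ N) z, map_mul,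
          ← hyu, ← hzv]
        show _ = algebraMap R _ (algebraMap A R _) * _ + algebraMap R _ (algebraMap A R _) * _
        rw [← IsScalarTower.algebraMap_apply, ← IsScalarTower.algebraMap_apply, ← Algebra.smul_def,
          ← Algebra.smul_def, smul_smul, smul_smul, ← pow_add, ← pow_add, add_comm M N]
      | smul r u _ hu =>
        obtain ⟨N, y, hy, hyu⟩ := hu
        obtain ⟨⟨r₀, _, m, rfl⟩, hr⟩ := IsLocalization.surj (Submonoid.powers c) r
        refine ⟨N + m, r₀ • y, W₀.smul_mem _ hy, ?_⟩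
        rw [Algebra.smul_def r₀ y, map_mul, ← hyu]
        show _ = algebraMap R _ (algebraMap A R _) * _
        rw [← IsScalarTower.algebraMap_apply, IsScalarTower.algebraMap_apply A Γ(X, X.basicOpen c) _ r₀, ← hr]
        simp only [Algebra.smul_def, map_mul, map_pow, ← IsScalarTower.algebraMap_apply]
        ring
    intro z
    obtain ⟨N, y, hy, hyz⟩ := key (ρ z) (hgens ▸ Submodule.mem_top)
    obtain ⟨⟨_, k, rfl⟩, hk⟩ := (IsLocalization.eq_iff_exists (Submonoid.powers (algebraMap A R c))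
      Γ(V, f ⁻¹ᵁ X.basicOpen c) (x := c ^ N • z) (y := y)).mp (by
        rw [Algebra.smul_def, map_mul, ← IsScalarTower.algebraMap_apply, ← Algebra.smul_def]
        exact hyz)
    refine ⟨k + N, ?_⟩
    rw [pow_add, ← smul_smul, Algebra.smul_def (c ^ k), map_pow, show algebraMap A R c ^ k * c ^ N • z = algebraMap A R c ^ k * y from hk,
      ← map_pow, ← Algebra.smul_def]
    exact W₀.smul_mem _ hy
  -- torsion free
  haveI : Module.IsTorsionFree A R := .of_smul_eq_zero fun a z haz => by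
    by_cases ha : a = 0
    · exact Or.inl ha
    refine Or.inr (V.sheaf.eq_of_locally_eq' (fun c : I => f ⁻¹ᵁ X.basicOpen c.1) _
      (fun c => homOfLE (hle c.1)) (fun v _ => ?_) z 0 fun c => ?_)
    · obtain ⟨c, hc, hv⟩ := hUI (f v) (g v).2
      exact Opens.mem_iSup.2 ⟨⟨c, hc⟩, hv⟩
    · exact ((hpiece c.1 c.2).1 a ha z haz).trans (map_zero _).symm
  -- a finite submodule which is everything away from `V(I)`
  obtain ⟨T, hT⟩ := IsNoetherian.noetherian I
  have hTI : ∀ c : T, c.1 ∈ I := fun c => hT ▸ Submodule.subset_span c.2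
  choose S hS using fun c : T => (hpiece c.1 (hTI c)).2
  let M : Submodule A R := ⨆ c : T, Submodule.span A (S c : Set R)
  have hM : M.FG := Submodule.fg_iSup _ fun c => Submodule.fg_span (S c).finite_toSet
  show Module.Finite A R
  refine finite_of_depth_two I hI M hM fun z => ?_
  let J : Ideal A := M.colon {z}
  have hJ : I ≤ J.radical := by
    rw [← hT, Submodule.span_le]
    intro c hc
    obtain ⟨N, hN⟩ := hS ⟨c, hc⟩ z
    exact ⟨N, Submodule.mem_colon_singleton.2 (le_iSup (fun c : T => Submodule.span A (S c : Set R)) ⟨c, hc⟩ hN)⟩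
  obtain ⟨K, hK⟩ := Ideal.exists_pow_le_of_le_radical_of_fg hJ (IsNoetherian.noetherian I)
  exact ⟨K, fun y hy => Submodule.mem_colon_singleton.1 (hK hy)⟩

end Groth.Agent.H18Pur
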