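import Mathlib
import Groth.Agent.H18Pur.Isolated
import Groth.Agent.H05EGA4.IntegralDim

/-!
# Purity of the branch locus, local ring form
-/

set_option autoImplicit false

universe u

open IsLocalRing TensorProduct nonZeroDivisors

namespace Groth.Agent.H18Pur

/-- Unramified in height one below `q` implies étale at `q`, for a finite normal extension. -/
theorem isEtaleAt_of_unramified_below {A C : Type u} [CommRing A] [IsRegularLocalRing A] [CommRing C] [IsDomain C]
    [IsIntegrallyClosed C] [Algebra A C] [Module.Finite A C] (hinj : Function.Injective (algebraMap A C))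
    (q : Ideal C) [q.IsPrime]
    (h : ∀ (q' : Ideal C) [q'.IsPrime], q' ≤ q → (q'.comap (algebraMap A C)).height ≤ 1 →
      Algebra.IsUnramifiedAt A q') :
    Algebra.IsEtaleAt A q := by
  haveI : IsDomain A := H4Depth.isDomain_of_isRegularLocalRing A
  haveI : IsNoetherianRing C := IsNoetherianRing.of_finite A C
  haveI : Algebra.FinitePresentation A C := Algebra.FinitePresentation.of_finiteType.mp inferInstance
  suffices H : ∀ n : ℕ∞, ∀ (q' : Ideal C) [q'.IsPrime], q' ≤ q → (q'.comap (algebraMap A C)).height = n →
      Algebra.IsEtaleAt A q' from H _ q le_rfl rfl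
  intro n
  induction n using WellFoundedLT.induction with
  | ind n ih =>
  intro q' hq' hle hn
  let p := q'.comap (algebraMap A C)
  haveI hp : p.IsPrime := Ideal.IsPrime.comap _
  let S' := Localization.AtPrime p
  haveI : IsRegularLocalRing S' := H05EGA4.isRegularLocalRing_localization A p
  haveI : IsDomain S' := H4Depth.isDomain_of_isRegularLocalRing S'
  let M := Algebra.algebraMapSubmonoid C p.primeCompl
  let T' := Localization M
  letI : Algebra S' T' := localizationAlgebra p.primeCompl C
  haveI : IsScalarTower A S' T' := IsScalarTower.of_algebraMap_eq fun x => by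
    rw [IsScalarTower.algebraMap_apply A C T']
    exact (IsLocalization.map_eq (M := p.primeCompl) (T := M) (Q := T') (g := algebraMap A C) _ x).symm
  haveI : Module.Finite S' T' := Module.Finite.of_isLocalization A C p.primeCompl
  haveI : IsNoetherianRing T' := IsNoetherianRing.of_finite S' T'
  haveI : Algebra.FinitePresentation S' T' := Algebra.FinitePresentation.of_finiteType.mp inferInstance
  have hMle : M ≤ C⁰ := by
    rintro _ ⟨s, hs, rfl⟩
    exact mem_nonZeroDivisors_of_ne_zero fun h0 => hs ((hinj (h0.trans (map_zero _).symm)) ▸ zero_mem p)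
  haveI : IsDomain T' := IsLocalization.isDomain_localization hMle
  haveI : IsIntegrallyClosed T' := isIntegrallyClosed_of_isLocalization T' M hMle
  have hinj' : Function.Injective (algebraMap S' T') := by
    haveI : IsLocalization (Submonoid.map (algebraMap A C) p.primeCompl) T' :=
      inferInstanceAs (IsLocalization M (Localization M))
    exact IsLocalization.map_injective_of_injective (M := p.primeCompl) (S := S') (Q := T') (g := algebraMap A C) hinj
  have hdisj : Disjoint (M : Set C) (q' : Set C) := by
    rw [Set.disjoint_left]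
    rintro _ ⟨s, hs, rfl⟩ hsq
    exact hs hsq
  let Q : Ideal T' := q'.map (algebraMap C T')
  haveI : Q.IsPrime := IsLocalization.isPrime_of_isPrime_disjoint _ T' q' hq' hdisj
  have hQ : Q.comap (algebraMap C T') = q' := IsLocalization.comap_map_of_isPrime_disjoint _ T' hq' hdisj
  suffices H : Algebra.IsEtaleAt S' Q by
    have := (H18Et.PurityFlat.isEtaleAt_localization_iff (S := A) (T := C) p.primeCompl Q).1 H
    simpa only [hQ] using this
  have hQm : Q.comap (algebraMap S' T') = maximalIdeal S' := by
    have h1 : (Q.comap (algebraMap S' T')).comap (algebraMap A S') = p := by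
      rw [Ideal.comap_comap, ← IsScalarTower.algebraMap_eq, IsScalarTower.algebraMap_eq A C T', ← Ideal.comap_comap, hQ]
    exact (IsLocalization.map_comap p.primeCompl S' _).symm.trans
      ((congrArg (Ideal.map (algebraMap A S')) h1).trans (IsLocalization.AtPrime.map_eq_maximalIdeal p S'))
  rcases le_or_gt n 1 with hn1 | hn1
  · -- flat and unramified
    have hdim : ringKrullDim S' ≤ 1 := by
      rw [IsLocalization.AtPrime.ringKrullDim_eq_height p S', hn]
      exact_mod_cast hn1
    haveI : Module.Free S' T' := by
      refine S0605.result S' T' (le_antisymm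
        ((H4Depth.depth_le_supportDim (R := S') (M := T')).trans (Module.supportDim_le_ringKrullDim S' T')) ?_)
      obtain ⟨d, x, hd, -⟩ := H4Depth.exists_regular_system_of_parameters S'
      rw [hd] at hdim ⊢
      have hd1 : d ≤ 1 := by exact_mod_cast hdim
      rcases Nat.le_one_iff_eq_zero_or_eq_one.mp hd1 with rfl | rfl
      · exact_mod_cast (bot_le : (0 : ℕ∞) ≤ LocCoh.depth S' T')
      · have hm : maximalIdeal S' ≠ ⊥ := fun h0 => by
          rw [ringKrullDim_eq_zero_of_isField (isField_iff_maximalIdeal_eq.mpr h0)] at hd
          exact absurd hd (by decide)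
        obtain ⟨s, hs, hs0⟩ := Submodule.exists_mem_ne_zero_of_ne_bot hm
        refine WithBot.coe_le_coe.mpr ?_
        have hMne : maximalIdeal S' • (⊤ : Submodule S' T') ≠ ⊤ :=
          fun h => top_ne_bot (Submodule.eq_bot_of_le_smul_of_le_jacobson_bot _ _ Module.Finite.fg_top h.ge
            (maximalIdeal_le_jacobson _))
        exact (H4Depth.one_le_idealDepth_iff hMne).mpr ⟨s, hs, fun u v huv => by
          simp only [Algebra.smul_def] at huv
          exact mul_left_cancel₀ (fun h0 => hs0 (hinj' (h0.trans (map_zero _).symm))) huv⟩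
    haveI := h q' (hle) (hn ▸ hn1)
    haveI : Algebra.IsUnramifiedAt S' Q := by
      haveI : IsLocalization.AtPrime (Localization.AtPrime Q) (Q.comap (algebraMap C T')) :=
        IsLocalization.isLocalization_isLocalization_atPrime_isLocalization M (Localization.AtPrime Q) Q
      haveI h2 : Algebra.FormallyUnramified A (Localization.AtPrime (Q.comap (algebraMap C T'))) := by
        have key : ∀ (I : Ideal C) [I.IsPrime], I = q' → Algebra.FormallyUnramified A (Localization.AtPrime I) := by
          intro I _ hI
          subst hI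
          exact ‹Algebra.IsUnramifiedAt A I›
        exact key _ hQ
      haveI : Algebra.FormallyUnramified A (Localization.AtPrime Q) :=
        Algebra.FormallyUnramified.of_equiv ((IsLocalization.algEquiv (Q.comap (algebraMap C T')).primeCompl
          (Localization.AtPrime (Q.comap (algebraMap C T'))) (Localization.AtPrime Q)).restrictScalars A)
      exact Algebra.FormallyUnramified.of_restrictScalars A S' (Localization.AtPrime Q)
    exact Algebra.IsEtaleAt.of_isUnramifiedAt_of_flat Q
  · have hdim : (2 : WithBot ℕ∞) ≤ ringKrullDim S' := by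
      rw [IsLocalization.AtPrime.ringKrullDim_eq_height p S', hn]
      exact WithBot.coe_le_coe.mpr (Order.add_one_le_of_lt hn1 |> fun h => by simpa [one_add_one_eq_two] using h)
    refine isEtaleAt_of_below hdim hinj' Q hQm fun Q' hQ' hlt => ?_
    rw [H18Et.PurityFlat.isEtaleAt_localization_iff (S := A) (T := C) p.primeCompl Q']
    let q'' := Q'.comap (algebraMap C T')
    haveI : q''.IsPrime := Ideal.IsPrime.comap _
    have hlt' : q'' < q' := by
      refine lt_of_le_of_ne (hQ ▸ Ideal.comap_mono hlt.le) fun e => hlt.ne ?_
      exact (IsLocalization.map_comap M T' Q').symm.trans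
        ((congrArg (Ideal.map (algebraMap C T')) e).trans rfl)
    have hp' : q''.comap (algebraMap A C) < p := Ideal.IsIntegral.comap_lt_comap hlt'
    exact ih (q''.comap (algebraMap A C)).height (hn ▸ Ideal.height_strict_mono_of_isPrime hp') q''
      (hlt'.le.trans hle) rfl

/-- Purity of the branch locus, local form. -/
theorem formallyEtale_of_quasiFinite_of_injective {A B : Type u} [CommRing A] [IsRegularLocalRing A] [CommRing B]
    [IsLocalRing B] [IsDomain B] [IsIntegrallyClosed B] [Algebra A B] [IsLocalHom (algebraMap A B)]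
    [Algebra.EssFiniteType A B] [Algebra.QuasiFinite A B] (hinjA : Function.Injective (algebraMap A B))
    (hdim1 : (1 : WithBot ℕ∞) ≤ ringKrullDim B)
    (hunr : ∀ (Q : Ideal B) [Q.IsPrime], Q.height = 1 →
      Algebra.FormallyUnramified A (Localization.AtPrime Q)) :
    Module.Flat A B ∧ Algebra.FormallyUnramified A B := by
  classical
  haveI : IsDomain A := H4Depth.isDomain_of_isRegularLocalRing A
  haveI : IsIntegrallyClosed A := H05EGA4.isIntegrallyClosed_of_isRegularLocalRing A
  let C := integralClosure A B
  -- `B` is a localization of `C`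
  let q : Ideal C := (maximalIdeal B).comap (algebraMap C B)
  have hzmt : ∀ b : B, ∃ c t : C, IsUnit (t : B) ∧ b * (t : B) = c := by
    let S := Algebra.EssFiniteType.subalgebra A B
    haveI : IsLocalization (Algebra.EssFiniteType.submonoid A B) B := inferInstance
    let nS : Ideal S := (maximalIdeal B).comap (algebraMap S B)
    have hsub : ∀ t : S, t ∈ Algebra.EssFiniteType.submonoid A B ↔ t ∈ nS.primeCompl := fun t => by
      show IsUnit (algebraMap S B t) ↔ algebraMap S B t ∉ maximalIdeal B
      simp [mem_maximalIdeal, mem_nonunits_iff]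
    haveI : IsLocalization.AtPrime B nS := by
      have : Algebra.EssFiniteType.submonoid A B = nS.primeCompl := Submonoid.ext hsub
      show IsLocalization nS.primeCompl B
      rw [← this]; infer_instance
    haveI : Algebra.QuasiFiniteAt A nS :=
      (Algebra.QuasiFinite.iff_of_algEquiv
        ((IsLocalization.algEquiv nS.primeCompl B (Localization.AtPrime nS)).restrictScalars A)).mp inferInstance
    obtain ⟨r, hrp, hr, hm⟩ := Algebra.zariskisMainProperty_iff.mp
      (Algebra.ZariskisMainProperty.of_finiteType (R := A) nS)
    have hru : IsUnit (algebraMap S B r) := (hsub r).mpr hrp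
    intro b
    obtain ⟨⟨x, y⟩, hxy⟩ := IsLocalization.surj (Algebra.EssFiniteType.submonoid A B) b
    obtain ⟨m, hm₁⟩ := hm x
    obtain ⟨m', hm₂⟩ := hm (y : S)
    let ψ : S →ₐ[A] B := IsScalarTower.toAlgHom A S B
    refine ⟨⟨ψ (r ^ m' * (r ^ m * x)), ?_⟩, ⟨ψ (r ^ m * (r ^ m' * (y : S))), ?_⟩, ?_, ?_⟩
    · exact ((hr.pow m').mul hm₁).map ψ
    · exact ((hr.pow m).mul hm₂).map ψ
    · show IsUnit (algebraMap S B (r ^ m * (r ^ m' * (y : S))))
      rw [map_mul, map_mul, map_pow, map_pow]
      exact (hru.pow m).mul ((hru.pow m').mul y.2)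
    · show b * algebraMap S B _ = algebraMap S B _
      have hxy' : b * algebraMap S B (y : S) = algebraMap S B x := hxy
      simp only [map_mul, map_pow]
      linear_combination (algebraMap S B r ^ m * algebraMap S B r ^ m') * hxy'
  haveI : IsLocalization.AtPrime B q := by
    refine ⟨fun t => ?_, fun b => ?_, fun {u v} huv => ⟨1, by rw [Subtype.val_injective huv]⟩⟩
    · by_contra hu
      exact t.2 (show (t : C) ∈ q from hu)
    · obtain ⟨c, t, ht, hct⟩ := hzmt b
      exact ⟨⟨c, ⟨t, fun h => (mem_maximalIdeal _).mp h ht⟩⟩, hct⟩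
  have hinjC : Function.Injective (algebraMap A C) := fun u v huv => hinjA (congrArg Subtype.val huv)
  have hinjB : Function.Injective (algebraMap A B) := fun u v huv => hinjC (Subtype.ext huv)
  -- the generic fibre
  let K := FractionRing A
  let L := FractionRing B
  haveI : FaithfulSMul A L := (faithfulSMul_iff_algebraMap_injective A L).mpr
    (by rw [IsScalarTower.algebraMap_eq A B L]; exact (IsFractionRing.injective B L).comp hinjB)
  letI : Algebra K L := FractionRing.liftAlgebra A L
  haveI : IsScalarTower A K L := inferInstance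
  haveI hLunr : Algebra.FormallyUnramified A L := by
    obtain ⟨Q, hQ1, hQ⟩ : ∃ (Q : Ideal B) (_ : Q.IsPrime), Q.height = 1 := by
      haveI : IsNoetherianRing B := Algebra.EssFiniteType.isNoetherianRing A B
      have hne : maximalIdeal B ≠ ⊥ := fun h0 => by
        rw [ringKrullDim_eq_zero_of_isField (isField_iff_maximalIdeal_eq.mpr h0)] at hdim1
        exact absurd hdim1 (by decide)
      obtain ⟨b, hb, hb0⟩ := Submodule.exists_mem_ne_zero_of_ne_bot hne
      obtain ⟨Q, hQ⟩ := Ideal.nonempty_minimalPrimes (I := Ideal.span {b})
        (by rw [Ne, Ideal.span_singleton_eq_top]; exact (mem_maximalIdeal _).mp hb)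
      haveI := hQ.1.1
      refine ⟨Q, inferInstance, le_antisymm (Ideal.height_le_one_of_isPrincipal_of_mem_minimalPrimes _ Q hQ) ?_⟩
      refine Order.one_le_iff_pos.mpr (pos_iff_ne_zero.mpr fun h0 => hb0 ?_)
      rw [Ideal.height_eq_zero_iff_eq_bot] at h0
      exact (Submodule.mem_bot B).mp (h0 ▸ hQ.1.2 (Ideal.mem_span_singleton_self b))
    haveI := hQ1
    haveI := hunr Q hQ
    letI : Algebra (Localization.AtPrime Q) L :=
      (IsLocalization.lift (M := Q.primeCompl) (g := algebraMap B L) fun y => IsUnit.mk0 _
        ((map_ne_zero_iff _ (IsFractionRing.injective B L)).mpr (nonZeroDivisors.ne_zero (Q.primeCompl_le_nonZeroDivisors y.2)))).toAlgebra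
    haveI : IsScalarTower B (Localization.AtPrime Q) L := IsScalarTower.of_algebraMap_eq fun z =>
      (IsLocalization.lift_eq _ z).symm
    haveI : IsFractionRing (Localization.AtPrime Q) L :=
      IsFractionRing.isFractionRing_of_isLocalization Q.primeCompl _ _ Q.primeCompl_le_nonZeroDivisors
    haveI : Algebra.FormallyUnramified (Localization.AtPrime Q) L :=
      Algebra.FormallyUnramified.of_isLocalization (nonZeroDivisors (Localization.AtPrime Q))
    haveI : IsScalarTower A (Localization.AtPrime Q) L := IsScalarTower.to₁₃₄ A B _ _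
    exact Algebra.FormallyUnramified.comp A (Localization.AtPrime Q) L
  haveI : Algebra.EssFiniteType A L :=
    haveI : Algebra.EssFiniteType B L := Algebra.EssFiniteType.of_isLocalization _ B⁰
    Algebra.EssFiniteType.comp A B L
  haveI : Algebra.EssFiniteType K L := Algebra.EssFiniteType.of_comp A K L
  haveI : Algebra.FormallyUnramified K L := Algebra.FormallyUnramified.of_restrictScalars A K L
  haveI : Module.Finite K L := Algebra.FormallyUnramified.finite_of_free K L
  haveI : Algebra.IsSeparable K L := Algebra.FormallyUnramified.isSeparable K L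
  haveI : IsIntegralClosure C A L := by
    refine ⟨?_, fun {z} => ⟨fun hz => ?_, ?_⟩⟩
    · exact (IsFractionRing.injective B L).comp Subtype.val_injective
    · obtain ⟨b, rfl⟩ := IsIntegrallyClosed.isIntegral_iff.mp (hz.tower_top (A := B))
      exact ⟨⟨b, (isIntegral_algebraMap_iff (IsFractionRing.injective B L)).mp hz⟩, rfl⟩
    · rintro ⟨c, rfl⟩
      exact (c.2 : IsIntegral A (c : B)).algebraMap
  haveI : Module.Finite A C := IsIntegralClosure.finite A K L C
  haveI : IsFractionRing C L := IsIntegralClosure.isFractionRing_of_finite_extension A K L C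
  haveI : IsIntegrallyClosed C := (isIntegrallyClosed_iff L).mpr fun {z} hz => by
    haveI : Algebra.IsIntegral A C := IsIntegralClosure.isIntegral_algebra A L
    exact (IsIntegralClosure.isIntegral_iff (A := C)).mp (isIntegral_trans (R := A) z hz)
  haveI : Algebra.FinitePresentation A C := Algebra.FinitePresentation.of_finiteType.mp inferInstance
  -- unramified below `q`
  have hbelow : ∀ (q' : Ideal C) [q'.IsPrime], q' ≤ q → (q'.comap (algebraMap A C)).height ≤ 1 →
      Algebra.IsUnramifiedAt A q' := by
    intro q' hq' hle hh
    have hle1 : q'.height ≤ 1 := by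
      refine le_trans ?_ hh
      refine (PrimeSpectrum.height_eq_orderHeight ⟨q', hq'⟩).le.trans (le_trans ?_ (PrimeSpectrum.height_eq_orderHeight (PrimeSpectrum.comap (algebraMap A C) ⟨q', hq'⟩)).ge)
      exact Order.height_le_height_apply_of_strictMono (fun P : PrimeSpectrum C => PrimeSpectrum.comap (algebraMap A C) P)
        (fun P Q h => Ideal.IsIntegral.comap_lt_comap h) ⟨q', hq'⟩
    have hdisj : Disjoint (q.primeCompl : Set C) (q' : Set C) :=
      Set.disjoint_left.mpr fun z hz hz' => hz (hle hz')
    let Q := q'.map (algebraMap C B)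
    haveI : Q.IsPrime := IsLocalization.isPrime_of_isPrime_disjoint q.primeCompl B q' hq' hdisj
    have hQc : Q.comap (algebraMap C B) = q' := IsLocalization.comap_map_of_isPrime_disjoint q.primeCompl B hq' hdisj
    haveI hBQ : IsLocalization.AtPrime (Localization.AtPrime Q) (Q.comap (algebraMap C B)) :=
      IsLocalization.isLocalization_isLocalization_atPrime_isLocalization q.primeCompl (Localization.AtPrime Q) Q
    have hheight : Q.height = q'.height := by
      rw [← hQc, IsLocalization.height_comap q.primeCompl]
    haveI : Algebra.FormallyUnramified A (Localization.AtPrime Q) := by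
      rcases Order.le_one_iff.mp hle1 with h0 | h1
      · have hQ0 : Q = ⊥ := by
          rw [h0, Ideal.height_eq_zero_iff_eq_bot] at hheight
          exact hheight
        haveI : IsFractionRing B (Localization.AtPrime Q) := by
          have : Q.primeCompl = B⁰ := by
            ext z
            rw [Ideal.mem_primeCompl_iff, mem_nonZeroDivisors_iff_ne_zero, hQ0, Submodule.mem_bot]
          show IsLocalization B⁰ _
          rw [← this]; infer_instance
        exact Algebra.FormallyUnramified.of_equiv
          ((IsLocalization.algEquiv B⁰ L (Localization.AtPrime Q)).restrictScalars A)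
      · exact hunr Q (hheight.trans h1)
    have e : Localization.AtPrime (Q.comap (algebraMap C B)) ≃ₐ[C] Localization.AtPrime Q :=
      IsLocalization.algEquiv (Q.comap (algebraMap C B)).primeCompl _ _
    haveI hfin : Algebra.FormallyUnramified A (Localization.AtPrime (Q.comap (algebraMap C B))) :=
      Algebra.FormallyUnramified.of_equiv (e.restrictScalars A).symm
    have key : ∀ (I : Ideal C) [I.IsPrime], I = q' → Algebra.FormallyUnramified A (Localization.AtPrime I) →
        Algebra.IsUnramifiedAt A q' := by
      intro I _ hI h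
      subst hI
      exact h
    exact key _ hQc hfin
  haveI het : Algebra.IsEtaleAt A q := isEtaleAt_of_unramified_below hinjC q hbelow
  haveI : Algebra.FormallyEtale A (Localization.AtPrime q) := het
  have eB : Localization.AtPrime q ≃ₐ[A] B := (IsLocalization.algEquiv q.primeCompl _ B).restrictScalars A
  haveI : Algebra.FormallyEtale A B := Algebra.FormallyEtale.of_equiv eB
  refine ⟨?_, inferInstance⟩
  obtain ⟨g, hg, hgE⟩ : ∃ g : C, g ∉ q ∧ Algebra.Etale A (Localization.Away g) := by
    obtain ⟨_, ⟨g, rfl⟩, hgmem, hgsub⟩ := PrimeSpectrum.isTopologicalBasis_basic_opens.exists_subset_of_mem_open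
      (show (⟨q, inferInstance⟩ : PrimeSpectrum C) ∈ Algebra.etaleLocus A C from het)
      Algebra.isOpen_etaleLocus
    exact ⟨g, hgmem, Algebra.basicOpen_subset_etaleLocus_iff_etale.mp hgsub⟩
  haveI := hgE
  haveI hu : IsUnit (algebraMap C B g) := IsLocalization.map_units B (⟨g, hg⟩ : q.primeCompl)
  letI : Algebra (Localization.Away g) B := (IsLocalization.Away.lift g hu).toAlgebra
  haveI : IsScalarTower C (Localization.Away g) B := IsScalarTower.of_algebraMap_eq fun c =>
    (IsLocalization.Away.lift_eq g hu c).symm
  haveI : IsScalarTower A (Localization.Away g) B := IsScalarTower.to₁₃₄ A C _ _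
  haveI : IsLocalization (Algebra.algebraMapSubmonoid (Localization.Away g) q.primeCompl) B :=
    IsLocalization.isLocalization_of_submonoid_le _ _ (Submonoid.powers g) q.primeCompl
      (by rintro _ ⟨n, rfl⟩; exact fun h => hg (Ideal.IsPrime.mem_of_pow_mem inferInstance n h))
  haveI : Module.Flat (Localization.Away g) B := IsLocalization.flat B (Algebra.algebraMapSubmonoid (Localization.Away g) q.primeCompl)
  exact Module.Flat.trans A (Localization.Away g) B

/-- Purity of the branch locus, local form with equal dimensions. -/
theorem formallyEtale_of_quasiFinite {A B : Type u} [CommRing A] [IsRegularLocalRing A] [CommRing B]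
    [IsLocalRing B] [IsDomain B] [IsIntegrallyClosed B] [Algebra A B] [IsLocalHom (algebraMap A B)]
    [Algebra.EssFiniteType A B] [Algebra.QuasiFinite A B] (hdim : ringKrullDim A ≤ ringKrullDim B)
    (hdim1 : (1 : WithBot ℕ∞) ≤ ringKrullDim B)
    (hunr : ∀ (Q : Ideal B) [Q.IsPrime], Q.height = 1 →
      Algebra.FormallyUnramified A (Localization.AtPrime Q)) :
    Module.Flat A B ∧ Algebra.FormallyUnramified A B := by
  classical
  haveI : IsDomain A := H4Depth.isDomain_of_isRegularLocalRing A
  let C := integralClosure A B
  -- `B` is a localization of `C`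
  let q : Ideal C := (maximalIdeal B).comap (algebraMap C B)
  have hzmt : ∀ b : B, ∃ c t : C, IsUnit (t : B) ∧ b * (t : B) = c := by
    let S := Algebra.EssFiniteType.subalgebra A B
    haveI : IsLocalization (Algebra.EssFiniteType.submonoid A B) B := inferInstance
    let nS : Ideal S := (maximalIdeal B).comap (algebraMap S B)
    have hsub : ∀ t : S, t ∈ Algebra.EssFiniteType.submonoid A B ↔ t ∈ nS.primeCompl := fun t => by
      show IsUnit (algebraMap S B t) ↔ algebraMap S B t ∉ maximalIdeal B
      simp [mem_maximalIdeal, mem_nonunits_iff]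
    haveI : IsLocalization.AtPrime B nS := by
      have : Algebra.EssFiniteType.submonoid A B = nS.primeCompl := Submonoid.ext hsub
      show IsLocalization nS.primeCompl B
      rw [← this]; infer_instance
    haveI : Algebra.QuasiFiniteAt A nS :=
      (Algebra.QuasiFinite.iff_of_algEquiv
        ((IsLocalization.algEquiv nS.primeCompl B (Localization.AtPrime nS)).restrictScalars A)).mp inferInstance
    obtain ⟨r, hrp, hr, hm⟩ := Algebra.zariskisMainProperty_iff.mp
      (Algebra.ZariskisMainProperty.of_finiteType (R := A) nS)
    have hru : IsUnit (algebraMap S B r) := (hsub r).mpr hrp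
    intro b
    obtain ⟨⟨x, y⟩, hxy⟩ := IsLocalization.surj (Algebra.EssFiniteType.submonoid A B) b
    obtain ⟨m, hm₁⟩ := hm x
    obtain ⟨m', hm₂⟩ := hm (y : S)
    let ψ : S →ₐ[A] B := IsScalarTower.toAlgHom A S B
    refine ⟨⟨ψ (r ^ m' * (r ^ m * x)), ?_⟩, ⟨ψ (r ^ m * (r ^ m' * (y : S))), ?_⟩, ?_, ?_⟩
    · exact ((hr.pow m').mul hm₁).map ψ
    · exact ((hr.pow m).mul hm₂).map ψ
    · show IsUnit (algebraMap S B (r ^ m * (r ^ m' * (y : S))))
      rw [map_mul, map_mul, map_pow, map_pow]
      exact (hru.pow m).mul ((hru.pow m').mul y.2)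
    · show b * algebraMap S B _ = algebraMap S B _
      have hxy' : b * algebraMap S B (y : S) = algebraMap S B x := hxy
      simp only [map_mul, map_pow]
      linear_combination (algebraMap S B r ^ m * algebraMap S B r ^ m') * hxy'
  haveI : IsLocalization.AtPrime B q := by
    refine ⟨fun t => ?_, fun b => ?_, fun {u v} huv => ⟨1, by rw [Subtype.val_injective huv]⟩⟩
    · by_contra hu
      exact t.2 (show (t : C) ∈ q from hu)
    · obtain ⟨c, t, ht, hct⟩ := hzmt b
      exact ⟨⟨c, ⟨t, fun h => (mem_maximalIdeal _).mp h ht⟩⟩, hct⟩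
  have hdimB : ringKrullDim B ≤ ringKrullDim C := by
    rw [IsLocalization.AtPrime.ringKrullDim_eq_height q B]
    exact Ideal.height_le_ringKrullDim_of_ne_top (Ideal.IsPrime.ne_top inferInstance)
  -- injectivity
  obtain ⟨d, x, hd, -⟩ := H4Depth.exists_regular_system_of_parameters A
  have hinjC : Function.Injective (algebraMap A C) := by
    rw [injective_iff_map_eq_zero]
    intro s hs
    by_contra hs0
    let P := RingHom.ker (algebraMap A C)
    letI : Algebra (A ⧸ P) C := (RingHom.kerLift (algebraMap A C)).toAlgebra
    haveI : IsScalarTower A (A ⧸ P) C := IsScalarTower.of_algebraMap_eq fun _ => rfl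
    haveI : Algebra.IsIntegral (A ⧸ P) C := Algebra.IsIntegral.tower_top A
    have hdC : ringKrullDim C ≤ ringKrullDim (A ⧸ P) := (H05EGA4.dim_int (A ⧸ P) C).1
    have hlt : ringKrullDim (A ⧸ P) + 1 ≤ ringKrullDim A := by
      refine le_trans (add_le_add_left ?_ 1) (ringKrullDim_quotient_succ_le_of_nonZeroDivisor (mem_nonZeroDivisors_of_ne_zero hs0))
      exact ringKrullDim_le_of_surjective (Ideal.Quotient.factor ((Ideal.span_singleton_le_iff_mem P).mpr (RingHom.mem_ker.mpr hs)))
        (Ideal.Quotient.factor_surjective _)
    have h1 := (add_le_add_left ((hdim.trans hdimB).trans hdC) 1).trans hlt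
    rw [hd] at h1
    have : d + 1 ≤ d := by exact_mod_cast h1
    omega
  exact formallyEtale_of_quasiFinite_of_injective (fun u v huv => hinjC (Subtype.ext huv)) hdim1 hunr

end Groth.Agent.H18Pur
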