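import Mathlib
import Groth.Agent.S5090

/-!
# The local ring at a generization as a localization of the local ring
-/

set_option autoImplicit false

universe u

open AlgebraicGeometry CategoryTheory

namespace Groth.Agent.H18Pur

theorem exists_localization_equiv_of_specializes {X : Scheme.{u}} {ζ x : X} (h : ζ ⤳ x)
    (Q : Ideal (X.presheaf.stalk x)) [Q.IsPrime]
    (hQ : (IsLocalRing.maximalIdeal (X.presheaf.stalk ζ)).comap (X.presheaf.stalkSpecializes h).hom = Q) :
    ∃ e : X.presheaf.stalk ζ ≃+* Localization.AtPrime Q,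
      e.toRingHom.comp (X.presheaf.stalkSpecializes h).hom = algebraMap _ (Localization.AtPrime Q) := by
  obtain ⟨U, hU, hxU, -⟩ := exists_isAffineOpen_mem_and_subset (X := X) (U := ⊤) (x := x) trivial
  have hζU : ζ ∈ U := h.mem_open U.2 hxU
  letI := X.presheaf.algebra_section_stalk ⟨x, hxU⟩
  letI := X.presheaf.algebra_section_stalk ⟨ζ, hζU⟩
  set P := (hU.primeIdealOf ⟨x, hxU⟩).asIdeal
  set Q0 := (hU.primeIdealOf ⟨ζ, hζU⟩).asIdeal
  haveI : IsLocalization.AtPrime (X.presheaf.stalk x) P := hU.isLocalization_stalk ⟨x, hxU⟩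
  haveI : IsLocalization.AtPrime (X.presheaf.stalk ζ) Q0 := hU.isLocalization_stalk ⟨ζ, hζU⟩
  have hσ : ((X.presheaf.stalkSpecializes h).hom.comp (algebraMap Γ(X, U) (X.presheaf.stalk x)))
      = algebraMap Γ(X, U) (X.presheaf.stalk ζ) :=
    congrArg CommRingCat.Hom.hom (X.presheaf.germ_stalkSpecializes hxU h)
  have hcomap : Q.comap (algebraMap Γ(X, U) (X.presheaf.stalk x)) = Q0 := by
    rw [← hQ, Ideal.comap_comap, hσ]
    exact IsLocalization.AtPrime.comap_maximalIdeal (X.presheaf.stalk ζ) Q0
  have h2 := IsLocalization.isLocalization_isLocalization_atPrime_isLocalization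
    (T := Localization.AtPrime Q) P.primeCompl Q
  haveI h3 : IsLocalization.AtPrime (Localization.AtPrime Q) Q0 := by
    convert h2 using 3
    exact hcomap.symm
  let e := IsLocalization.algEquiv Q0.primeCompl (X.presheaf.stalk ζ) (Localization.AtPrime Q)
  refine ⟨e.toRingEquiv, IsLocalization.ringHom_ext P.primeCompl ?_⟩
  rw [RingHom.comp_assoc, hσ, ← IsScalarTower.algebraMap_eq]
  exact e.toAlgHom.comp_algebraMap

end Groth.Agent.H18Pur
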